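import Cfsg.Agent.Fg19NcAb.Quat
import Cfsg.Prelude.Def_Transfer

/-!
# 2-groups all of whose proper invariant subgroups are free
-/

set_option autoImplicit false

namespace Cfsg.Agent.Fg19NcAb

open Subgroup
open scoped commutatorElement

universe u

variable {P : Type u} [Group P] [Finite P]

theorem char_inv (H : Subgroup P) [H.Characteristic] (φ : MulAut P) : ∀ x ∈ H, φ x ∈ H :=
  fun _ hx => Subgroup.characteristic_iff_le_comap.mp (inferInstance : H.Characteristic) φ hx

theorem odd_order_of_mem {L : Subgroup (MulAut P)} (hodd : Odd (Nat.card ↥L)) {φ : MulAut P}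
    (hφ : φ ∈ L) : Odd (orderOf φ) := by
  refine Odd.of_dvd_nat hodd ?_
  have h := orderOf_dvd_natCard (⟨φ, hφ⟩ : ↥L)
  rwa [Subgroup.orderOf_mk] at h

/-- If every element is in `H` or in one other coset and `H` is central, the group is abelian. -/
theorem comm_of_two_central {H : Subgroup P} (hH : H ≤ center P)
    (h : ∀ a b : P, a ∉ H → b ∉ H → a⁻¹ * b ∈ H) : ∀ a b : P, a * b = b * a := by
  intro a b
  by_cases ha : a ∈ H
  · exact (mem_center_iff.mp (hH ha) b).symm
  by_cases hb : b ∈ H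
  · exact mem_center_iff.mp (hH hb) a
  have hc := mem_center_iff.mp (hH (h a b ha hb)) a
  calc a * b = a * (a * (a⁻¹ * b)) := by rw [mul_inv_cancel_left]
    _ = a * (a⁻¹ * b * a) := by rw [hc]
    _ = b * a := by group

/-- In a cyclic subgroup any two non-squares differ by a square. -/
theorem cyclic_two {Z N : Subgroup P} (hZ : IsCyclic ↥Z) (hsq : ∀ g ∈ Z, g * g ∈ N) :
    ∀ a ∈ Z, ∀ b ∈ Z, a ∉ N → b ∉ N → a⁻¹ * b ∈ N := by
  intro a ha b hb haN hbN
  obtain ⟨g, hg⟩ := IsCyclic.exists_generator (α := ↥Z)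
  obtain ⟨i, hi⟩ := mem_zpowers_iff.mp (hg ⟨a, ha⟩)
  obtain ⟨j, hj⟩ := mem_zpowers_iff.mp (hg ⟨b, hb⟩)
  have hi' : (g : P) ^ i = a := congrArg Subtype.val hi
  have hj' : (g : P) ^ j = b := congrArg Subtype.val hj
  have heven : ∀ m : ℤ, Even m → (g : P) ^ m ∈ N := by
    rintro m ⟨k, rfl⟩
    rw [zpow_add]
    exact hsq _ (zpow_mem g.2 k)
  rw [← hi'] at haN ⊢
  rw [← hj'] at hbN ⊢
  rw [← zpow_neg, ← zpow_add]
  rcases Int.even_or_odd i with h1 | h1
  · exact absurd (heven i h1) haN
  rcases Int.even_or_odd j with h2 | h2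
  · exact absurd (heven j h2) hbN
  exact heven _ (h1.neg.add_odd h2)

/-- The kernel of a fixed point valued multiplicative norm. -/
theorem exists_complement {L : Subgroup (MulAut P)} (hodd : Odd (Nat.card ↥L)) {z c : P}
    (hzc : z ∈ center P) (hz2 : orderOf z = 2) (hc : c ∈ center P) (hcz : c ≠ 1 ∧ c ≠ z)
    (hLz : ∀ φ ∈ L, φ z = z) (hLc : ∀ φ ∈ L, φ c = c ∨ φ c = c * z)
    (hder : ∀ x y : P, x * y * x⁻¹ * y⁻¹ = 1 ∨ x * y * x⁻¹ * y⁻¹ = z)
    (hsq : ∀ x : P, x * x = 1 ∨ x * x = z)
    (hfix : ∀ x : P, (∀ φ ∈ L, φ x = x ∨ φ x = x * z) →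
      x = 1 ∨ x = z ∨ x = c ∨ x = c * z) :
    ∃ X0 : Subgroup P, X0.index = 2 ∧ (∀ φ ∈ L, ∀ x ∈ X0, φ x ∈ X0) ∧ c ∉ X0 ∧ z ∈ X0 := by
  classical
  have := Fintype.ofFinite ↥L
  have hzn : (zpowers z).Normal := by
    refine ⟨fun a ha g => ?_⟩
    have : a ∈ center P := (zpowers_le.mpr hzc) ha
    rw [mem_center_iff.mp this g, mul_inv_cancel_right]
    exact ha
  have hmem : ∀ a : P, a ∈ zpowers z ↔ a = 1 ∨ a = z := fun a => by
    refine ⟨fun ha => ?_, ?_⟩
    · obtain ⟨n, rfl⟩ := mem_zpowers_iff.mp ha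
      rw [← zpow_mod_orderOf z n, hz2]
      rcases Int.emod_two_eq n with h | h <;> simp [h]
    · rintro (rfl | rfl)
      exacts [one_mem _, mem_zpowers _]
  let Q := P ⧸ zpowers z
  let _ : CommGroup Q :=
    { (inferInstance : Group Q) with
      mul_comm := by
        intro a b
        induction a using QuotientGroup.induction_on with | _ x => ?_
        induction b using QuotientGroup.induction_on with | _ y => ?_
        rw [← QuotientGroup.mk_mul, ← QuotientGroup.mk_mul, QuotientGroup.eq]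
        have h := (hmem _).mpr (hder y⁻¹ x⁻¹)
        rw [inv_inv, inv_inv] at h
        have e : (x * y)⁻¹ * (y * x) = y⁻¹ * x⁻¹ * y * x := by group
        rw [e]; exact h }
  have hzz := sq_eq_one_of_orderOf_two hz2
  have hzinv : z⁻¹ = z := inv_eq_of_mul_eq_one_right hzz
  have hmk : ∀ x y : P, (QuotientGroup.mk x : Q) = QuotientGroup.mk y → y = x ∨ y = x * z := by
    intro x y h
    rw [QuotientGroup.eq, hmem] at h
    rcases h with h | h
    · exact Or.inl (inv_mul_eq_one.mp h).symm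
    · exact Or.inr (by rw [← h, mul_inv_cancel_left])
  have hmkz : ∀ x : P, (QuotientGroup.mk (x * z) : Q) = QuotientGroup.mk x := fun x => by
    rw [QuotientGroup.eq]
    simp [hzinv, hmem]
  let ψ : P →* Q := MonoidHom.mk' (fun x => ∏ φ : ↥L, (QuotientGroup.mk ((φ : MulAut P) x) : Q))
    (fun a b => by simp only [map_mul, QuotientGroup.mk_mul, Finset.prod_mul_distrib])
  have hψ : ∀ x, ψ x = ∏ φ : ↥L, (QuotientGroup.mk ((φ : MulAut P) x) : Q) := fun _ => rfl
  have hψinv : ∀ μ ∈ L, ∀ x, ψ (μ x) = ψ x := by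
    intro μ hμ x
    rw [hψ, hψ, ← Equiv.prod_comp (Equiv.mulRight (⟨μ, hμ⟩ : ↥L))
      (fun φ : ↥L => (QuotientGroup.mk ((φ : MulAut P) x) : Q))]
    exact Finset.prod_congr rfl fun φ _ => rfl
  have hcard : ∀ q : Q, q * q = 1 := fun q => by
    induction q using QuotientGroup.induction_on with | _ x => ?_
    rw [← QuotientGroup.mk_mul, QuotientGroup.eq_one_iff, hmem]
    exact hsq x
  have hpowodd : ∀ (q : Q) (n : ℕ), Odd n → q ^ n = q := fun q n ⟨m, hm⟩ => by
    rw [hm, pow_succ, pow_mul, pow_two, hcard, one_pow, one_mul]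
  have hψc : ψ c = QuotientGroup.mk c := by
    rw [hψ, Finset.prod_eq_pow_card (b := (QuotientGroup.mk c : Q)) (fun φ _ => by
      rcases hLc _ φ.2 with h | h <;> rw [h]
      exact hmkz c)]
    exact hpowodd _ _ (by rwa [Finset.card_univ, ← Nat.card_eq_fintype_card])
  have hrange : ∀ x, ψ x = 1 ∨ ψ x = QuotientGroup.mk c := by
    intro x
    obtain ⟨y, hy⟩ := QuotientGroup.mk_surjective (ψ x)
    have hstep : ∀ μ ∈ L, (QuotientGroup.mk (μ y) : Q) = QuotientGroup.mk y := by
      intro μ hμ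
      have hmap : zpowers z ≤ (zpowers z).comap μ.toMonoidHom := fun a ha => by
        rcases (hmem a).mp ha with rfl | rfl
        · rw [mem_comap, map_one]; exact one_mem _
        · rw [mem_comap]; change μ a ∈ _; rw [hLz μ hμ]; exact mem_zpowers _
      let μ' : Q →* Q := QuotientGroup.map _ _ μ.toMonoidHom hmap
      change μ' (QuotientGroup.mk y) = _
      rw [hy]
      conv_lhs => rw [hψ, map_prod]
      rw [hψ, ← Equiv.prod_comp (Equiv.mulLeft (⟨μ, hμ⟩ : ↥L))
        (fun φ : ↥L => (QuotientGroup.mk ((φ : MulAut P) x) : Q))]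
      exact Finset.prod_congr rfl fun φ _ => rfl
    rcases hfix y (fun μ hμ => hmk _ _ (hstep μ hμ).symm) with h | h | h | h <;> rw [← hy, h]
    · exact Or.inl (QuotientGroup.mk_one _)
    · exact Or.inl ((QuotientGroup.eq_one_iff z).mpr (mem_zpowers z))
    · exact Or.inr rfl
    · exact Or.inr (hmkz c)
  have hcne : (QuotientGroup.mk c : Q) ≠ 1 := fun h => by
    rcases (hmem c).mp ((QuotientGroup.eq_one_iff c).mp h) with e | e
    exacts [hcz.1 e, hcz.2 e]
  refine ⟨ψ.ker, ?_, fun φ hφ x hx => by rw [MonoidHom.mem_ker, hψinv φ hφ]; exact hx,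
    fun h => hcne (hψc ▸ h), ?_⟩
  · rw [index_eq_two_iff]
    refine ⟨c, fun b => ?_⟩
    simp only [MonoidHom.mem_ker, map_mul, hψc]
    rcases hrange b with h | h <;> rw [h]
    · exact Or.inr ⟨rfl, by rwa [one_mul]⟩
    · exact Or.inl ⟨hcard _, hcne⟩
  · rw [MonoidHom.mem_ker, hψ]
    exact Finset.prod_eq_one fun φ _ => by
      rw [hLz _ φ.2]; exact (QuotientGroup.eq_one_iff z).mpr (mem_zpowers z)

theorem sq_mul {x y : P} (he : y * x * y⁻¹ * x⁻¹ ∈ center P) :
    x * y * (x * y) = y * x * y⁻¹ * x⁻¹ * (x * x * (y * y)) := by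
  calc x * y * (x * y) = x * ((y * x * y⁻¹ * x⁻¹) * (x * y * y)) := by group
    _ = x * (y * x * y⁻¹ * x⁻¹) * (x * y * y) := (mul_assoc _ _ _).symm
    _ = y * x * y⁻¹ * x⁻¹ * x * (x * y * y) := by rw [mem_center_iff.mp he x]
    _ = y * x * y⁻¹ * x⁻¹ * (x * x * (y * y)) := by simp only [mul_assoc]

/-- The case of a centre of order 4 with elementary abelian quotient by the derived group. -/
theorem quat_case (hP : IsPGroup 2 P) (L : Subgroup (MulAut P)) (hodd : Odd (Nat.card ↥L))
    {φ0 : MulAut P} (hφ0 : φ0 ∈ L) (hne : φ0 ≠ 1)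
    (hfree : ∀ Y : Subgroup P, (∀ φ ∈ L, ∀ x ∈ Y, φ x ∈ Y) → Y ≠ ⊤ → FreeIn Y)
    (hab : ¬ ∀ a b : P, a * b = b * a) {z c : P} (hz2 : orderOf z = 2) (hzc : z ∈ center P)
    (hc : c ∈ center P) (hcz : c ≠ 1 ∧ c ≠ z)
    (hZ : ∀ e ∈ center P, e = 1 ∨ e = z ∨ e = c ∨ e = c * z)
    (hdich : ∀ Y : Subgroup P, FreeIn Y → center P ≤ Y → Y ≤ center P ∨ IsCyclic ↥Y)
    (hLz : ∀ φ ∈ L, φ z = z) (hder : ∀ x y : P, x * y * x⁻¹ * y⁻¹ = 1 ∨ x * y * x⁻¹ * y⁻¹ = z)
    (hsq : ∀ x : P, x * x = 1 ∨ x * x = z) :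
    ∃ X0 : Subgroup P, X0.index = 2 ∧ Nonempty (↥X0 ≃* QuaternionGroup (2 ^ (0 + 1))) ∧
      X0 ⊔ center P = ⊤ := by
  classical
  have hLc : ∀ φ ∈ L, φ c = c ∨ φ c = c * z := by
    intro φ hφ
    rcases hZ _ (char_inv _ φ c hc) with h | h | h | h
    · exact absurd ((map_eq_one_iff φ φ.injective).mp h) hcz.1
    · exact absurd (φ.injective (h.trans (hLz φ hφ).symm)) hcz.2
    · exact Or.inl h
    · exact Or.inr h
  have hkey : ∀ Y : Subgroup P, (∀ φ ∈ L, ∀ x ∈ Y, φ x ∈ Y) → Y ≠ ⊤ → center P ≤ Y →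
      Y ≤ center P := by
    intro Y hinv hY hle
    refine (hdich Y (hfree Y hinv hY) hle).elim id fun hcyc => ?_
    obtain ⟨g, hg⟩ := IsCyclic.exists_generator (α := ↥Y)
    refine fun y hy => ?_
    obtain ⟨k, hk⟩ := mem_zpowers_iff.mp (hg ⟨c, hle hc⟩)
    obtain ⟨l, hl⟩ := mem_zpowers_iff.mp (hg ⟨y, hy⟩)
    have hk' : (g : P) ^ k = c := congrArg Subtype.val hk
    have hl' : (g : P) ^ l = y := congrArg Subtype.val hl
    have hgz : (g : P) * g ∈ center P := by
      rcases hsq g with h | h <;> rw [h]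
      exacts [one_mem _, hzc]
    rcases Int.even_or_odd k with ⟨m, rfl⟩ | ⟨m, rfl⟩
    · exfalso
      have : (g : P) ^ (m + m) = ((g : P) * g) ^ m := by
        rw [zpow_add, ← (Commute.refl (g : P)).mul_zpow]
      rw [this] at hk'
      rcases hsq g with h | h <;> rw [h] at hk'
      · rw [one_zpow] at hk'; exact hcz.1 hk'.symm
      · rw [← zpow_mod_orderOf z m, hz2] at hk'
        rcases Int.emod_two_eq m with e | e <;> simp [e] at hk'
        exacts [hcz.1 hk'.symm, hcz.2 hk'.symm]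
    · have hgc : (g : P) ∈ center P := by
        have e : (g : P) = ((g : P) * g) ^ (-m) * c := by
          rw [← hk', ← pow_two, ← zpow_natCast (g : P) 2, ← zpow_mul, ← zpow_add]
          simp
        rw [e]; exact mul_mem (zpow_mem hgz _) hc
      rw [← hl']; exact zpow_mem hgc _
  have hfix : ∀ x : P, (∀ φ ∈ L, φ x = x ∨ φ x = x * z) →
      x = 1 ∨ x = z ∨ x = c ∨ x = c * z := by
    intro x hx
    by_cases hxc : x ∈ center P
    · exact hZ x hxc
    exfalso
    refine hxc (hkey (center P ⊔ zpowers x) (fun φ hφ => ?_) ?_ le_sup_left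
      (mem_sup_right (mem_zpowers x)))
    · have h : center P ⊔ zpowers x ≤ (center P ⊔ zpowers x).comap φ.toMonoidHom := by
        refine sup_le (fun a ha => mem_sup_left (char_inv _ φ a ha)) (zpowers_le.mpr ?_)
        rcases hx φ hφ with h | h <;> rw [mem_comap] <;>
          change φ x ∈ _ <;> rw [h]
        · exact mem_sup_right (mem_zpowers x)
        · exact mul_mem (mem_sup_right (mem_zpowers x)) (mem_sup_left hzc)
      exact fun a ha => h ha
    · intro htop
      refine hxc (mem_center_iff.mpr fun g => ?_)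
      have h : center P ⊔ zpowers x ≤ centralizer ({x} : Set P) :=
        sup_le (fun a ha => mem_centralizer_singleton_iff.mpr (mem_center_iff.mp ha x).symm)
          (zpowers_le.mpr (mem_centralizer_singleton_iff.mpr rfl))
      exact mem_centralizer_singleton_iff.mp (h (htop ▸ mem_top g))
  obtain ⟨X0, hidx, hinv, hcX, hzX⟩ :=
    exists_complement hodd hzc hz2 hc hcz hLz hLc hder hsq hfix
  have hco : IsCoatom X0 := by
    refine (isCoatom_or_top fun a b ha hb => ?_).resolve_left fun e => hcX (e ▸ mem_top c)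
    exact (mul_mem_iff_of_index_two hidx).mpr
      ⟨fun h => absurd (inv_inv a ▸ inv_mem h) ha, fun h => absurd h hb⟩
  have hsup : X0 ⊔ center P = ⊤ :=
    hco.2 _ (lt_of_le_of_ne le_sup_left fun e => hcX (e ▸ mem_sup_right hc))
  have hX0top : X0 ≠ ⊤ := hco.1
  have hfc : φ0 c = c := by
    rcases hLc φ0 hφ0 with h | h
    · exact h
    · rw [(mem_center_iff.mp hzc c)] at h
      exact fixed_of_odd (odd_order_of_mem hodd hφ0) h (hLz φ0 hφ0) (k := 1)
        (by rw [pow_one, pow_two, sq_eq_one_of_orderOf_two hz2])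
  let ψ : MulAut ↥X0 :=
    { toFun := fun x => ⟨φ0 x, hinv φ0 hφ0 _ x.2⟩
      invFun := fun x => ⟨φ0.symm x, hinv φ0⁻¹ (inv_mem hφ0) _ x.2⟩
      left_inv := fun x => Subtype.ext (φ0.symm_apply_apply _)
      right_inv := fun x => Subtype.ext (φ0.apply_symm_apply _)
      map_mul' := fun x y => Subtype.ext (map_mul φ0 _ _) }
  have hψpow : ∀ (n : ℕ) (x : ↥X0), (((ψ ^ n) x : ↥X0) : P) = (φ0 ^ n) x := by
    intro n
    induction n with
    | zero => intro x; rfl
    | succ n ih =>
      intro x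
      rw [pow_succ', pow_succ', MulAut.mul_apply, MulAut.mul_apply, ← ih]
      rfl
  have hψodd : Odd (orderOf ψ) := by
    refine Odd.of_dvd_nat (odd_order_of_mem hodd hφ0) (orderOf_dvd_of_pow_eq_one ?_)
    exact MulEquiv.ext fun x => Subtype.ext (by rw [hψpow, pow_orderOf_eq_one]; rfl)
  have hψne : ψ ≠ 1 := by
    intro h1
    refine hne (MulEquiv.ext fun x => ?_)
    let F : Subgroup P := φ0.toMonoidHom.eqLocus (MonoidHom.id P)
    have hF : X0 ⊔ center P ≤ F := sup_le
      (fun a ha => congrArg Subtype.val (MulEquiv.congr_fun h1 ⟨a, ha⟩))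
      (fun e he => by
        rcases hZ e he with rfl | rfl | rfl | rfl
        · exact one_mem _
        · exact hLz φ0 hφ0
        · exact hfc
        · change φ0 (c * z) = c * z
          rw [map_mul, hfc, hLz φ0 hφ0])
    exact hF (hsup ▸ mem_top x : x ∈ X0 ⊔ center P)
  refine ⟨X0, hidx, quaternion_of_free (hP.to_subgroup X0) hψodd hψne
    ((hfree X0 hinv hX0top).map X0.subtype_injective (by
      rw [← MonoidHom.range_eq_map, range_subtype])) ?_, hsup⟩
  by_contra hcomm
  push Not at hcomm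
  apply hab
  have hle : X0 ≤ center P := fun x hx => by
    refine mem_center_iff.mpr fun g => ?_
    have h : X0 ⊔ center P ≤ centralizer ({x} : Set P) :=
      sup_le (fun a ha => mem_centralizer_singleton_iff.mpr
          (congrArg Subtype.val (hcomm ⟨a, ha⟩ ⟨x, hx⟩)))
        (fun a ha => mem_centralizer_singleton_iff.mpr (mem_center_iff.mp ha x).symm)
    exact mem_centralizer_singleton_iff.mp (h (hsup ▸ mem_top g))
  intro a b
  have ha : a ∈ center P := (sup_le hle le_rfl : X0 ⊔ center P ≤ center P) (hsup ▸ mem_top a)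
  exact (mem_center_iff.mp ha b).symm

/-- The structure of a 2-group all of whose proper invariant subgroups are free. -/
theorem classify (hP : IsPGroup 2 P) (L : Subgroup (MulAut P)) (hodd : Odd (Nat.card ↥L))
    {φ0 : MulAut P} (hφ0 : φ0 ∈ L) (hne : φ0 ≠ 1)
    (hfree : ∀ Y : Subgroup P, (∀ φ ∈ L, ∀ x ∈ Y, φ x ∈ Y) → Y ≠ ⊤ → FreeIn Y)
    {A : Subgroup P} (hAc : IsMulCommutative ↥A) (hAn : ¬ IsCyclic ↥A)
    (hA8 : Nat.card ↥A = 8) :
    IsMulCommutative P ∨ (Cfsg.IsExtraspecial 2 P ∧ 32 ≤ Nat.card P) ∨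
      (∃ X0 : Subgroup P, X0.index = 2 ∧ Nonempty (↥X0 ≃* QuaternionGroup (2 ^ (0 + 1))) ∧
        X0 ⊔ center P = ⊤) ∨
      (Cfsg.IsSpecial 2 P ∧ Nat.card ↥(center P) = 4) := by
  classical
  have hp2 : Fact (Nat.Prime 2) := ⟨Nat.prime_two⟩
  have ho0 : Odd (orderOf φ0) := odd_order_of_mem hodd hφ0
  by_cases hab : ∀ a b : P, a * b = b * a
  · exact Or.inl ⟨⟨hab⟩⟩
  refine Or.inr ?_
  have hZtop : center P ≠ ⊤ := fun e => hab fun a b =>
    mem_center_iff.mp (e ▸ mem_top b : b ∈ center P) a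
  have hFtop : frattini P ≠ ⊤ := fun e => by
    have h := frattini_nongenerating (K := (⊥ : Subgroup P)) (by rw [e, sup_top_eq])
    exact hab fun a b => by
      have ha : a = 1 := mem_bot.mp (h ▸ mem_top a)
      rw [ha, one_mul, mul_one]
  have hF : frattini P ≤ center P := by
    refine frattini_central hP ho0 hne (hfree _ (fun φ _ => char_inv _ φ) hFtop) ?_
    by_cases hC : centralizer (frattini P : Set P) = ⊤
    · exact Or.inl hC
    · exact Or.inr (hfree _ (fun φ _ => char_inv _ φ) hC)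
  have hZfree : FreeIn (center P) := hfree _ (fun φ _ => char_inv _ φ) hZtop
  have hZcomm : ∀ c ∈ center P, ∀ g : P, c * g = g * c := fun c hc g =>
    (mem_center_iff.mp hc g).symm
  have hder2 : ∀ x y : P, x * y * x⁻¹ * y⁻¹ * (x * y * x⁻¹ * y⁻¹) = 1 := fun x y => by
    have h1 : x * y * x⁻¹ * y⁻¹ ∈ center P := hF (commutator_mem_frattini hP x y)
    have h2 := mem_center_iff.mp (hF (sq_mem_frattini hP y)) x
    have e : x * (y * y) * x⁻¹ * (y * y)⁻¹ =
        x * y * x⁻¹ * y⁻¹ * (y * (x * y * x⁻¹ * y⁻¹) * y⁻¹) := by group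
    rw [← hZcomm _ h1 y, mul_inv_cancel_right] at e
    rw [← e, h2, mul_inv_cancel_right, mul_inv_cancel]
  obtain ⟨a1, b1, hab1⟩ : ∃ a b : P, a * b ≠ b * a := by
    by_contra hcon; push Not at hcon; exact hab hcon
  have hd1 : a1 * b1 * a1⁻¹ * b1⁻¹ ≠ 1 := fun e => hab1 (by
    rw [mul_inv_eq_one, mul_inv_eq_iff_eq_mul] at e; exact e)
  set d := a1 * b1 * a1⁻¹ * b1⁻¹ with hddef
  have hdc : d ∈ center P := hF (commutator_mem_frattini hP a1 b1)
  have hd2 : orderOf d = 2 := (eq_one_or_orderOf_two (hder2 a1 b1)).resolve_left hd1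
  have hspecial : ∀ H : Subgroup P, center P ≤ H → H ≤ commutator P → Cfsg.IsSpecial 2 P := by
    intro H h1 h2
    have hcf : commutator P ≤ frattini P := by
      have := hP.isNilpotent; exact Core.commutator_le_frattini
    exact ⟨hP, le_antisymm hF ((h1.trans h2).trans hcf),
      le_antisymm (hcf.trans hF) (h1.trans h2)⟩
  have hdder : d ∈ commutator P := by
    rw [hddef, ← commutatorElement_def]
    exact commutator_mem_commutator (mem_top a1) (mem_top b1)
  by_cases hsmall : ∀ c ∈ center P, c = 1 ∨ c = d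
  · -- the extraspecial case
    refine Or.inl ?_
    have hs : Cfsg.IsSpecial 2 P := hspecial (center P) le_rfl fun c hc => by
      rcases hsmall c hc with rfl | rfl
      exacts [one_mem _, hdder]
    have hZ : center P = zpowers d := le_antisymm (fun c hc => by
      rcases hsmall c hc with rfl | rfl
      exacts [one_mem _, mem_zpowers _]) (zpowers_le.mpr hdc)
    have hZcard : Nat.card ↥(center P) = 2 := by rw [hZ, Nat.card_zpowers, hd2]
    refine ⟨⟨hs, hZcard⟩, ?_⟩
    obtain ⟨n, hn⟩ := IsPGroup.iff_card.mp hP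
    have hle : 8 ≤ Nat.card P := hA8 ▸ Subgroup.card_le_card_group A
    by_contra hlt
    have hAtop : A ≠ ⊤ := fun e => hab fun a b =>
      congrArg Subtype.val (hAc.is_comm.comm ⟨a, e ▸ mem_top a⟩ ⟨b, e ▸ mem_top b⟩)
    have hAi : A.index = 2 := by
      have h := A.card_mul_index
      rw [hA8] at h
      have h1 : A.index ≠ 1 := fun e => hAtop (index_eq_one.mp e)
      have hdvd : A.index ∣ 2 ^ n := hn ▸ A.index_dvd_card
      obtain ⟨m, -, hm⟩ := (Nat.dvd_prime_pow Nat.prime_two).mp hdvd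
      rw [hm] at h h1 ⊢
      rcases m with _ | _ | m
      · exact absurd (pow_zero 2) h1
      · rfl
      · have : 4 ≤ 2 ^ (m + 1 + 1) := by
          rw [pow_succ, pow_succ]; have := Nat.one_le_two_pow (n := m); omega
        omega
    obtain ⟨x, hx⟩ : ∃ x, x ∉ A := by
      by_contra hcon; push Not at hcon; exact hAtop (eq_top_iff.mpr fun y _ => hcon y)
    let f : ↥A →* ↥(center P) :=
      MonoidHom.mk' (fun a => ⟨(a : P) * x * (a : P)⁻¹ * x⁻¹,
        hF (commutator_mem_frattini hP a x)⟩) (fun a b => Subtype.ext (by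
          have h1 := hZcomm _ (hF (commutator_mem_frattini hP (b : P) x)) (a : P)
          change (a : P) * b * x * ((a : P) * b)⁻¹ * x⁻¹ =
            (a : P) * x * (a : P)⁻¹ * x⁻¹ * ((b : P) * x * (b : P)⁻¹ * x⁻¹)
          rw [hZcomm _ (hF (commutator_mem_frattini hP (b : P) x))
            ((a : P) * x * (a : P)⁻¹ * x⁻¹) |>.symm]
          calc (a : P) * b * x * ((a : P) * b)⁻¹ * x⁻¹
              = (a : P) * ((b : P) * x * (b : P)⁻¹ * x⁻¹) * (x * (a : P)⁻¹ * x⁻¹) := by group
            _ = (b : P) * x * (b : P)⁻¹ * x⁻¹ * ((a : P) * x * (a : P)⁻¹ * x⁻¹) := by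
              rw [← h1]; group))
    have hker : (f.ker.map A.subtype) ≤ center P := by
      rintro _ ⟨a, ha, rfl⟩
      have hax : (a : P) * x = x * a := by
        have := congrArg Subtype.val (MonoidHom.mem_ker.mp ha)
        change (a : P) * x * (a : P)⁻¹ * x⁻¹ = 1 at this
        rwa [mul_inv_eq_one, mul_inv_eq_iff_eq_mul] at this
      refine mem_center_iff.mpr fun g => ?_
      change g * (a : P) = (a : P) * g
      by_cases hg : g ∈ A
      · exact congrArg Subtype.val (hAc.is_comm.comm ⟨g, hg⟩ a)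
      · have hxg : x⁻¹ * g ∈ A := (mul_mem_iff_of_index_two hAi).mpr
          ⟨fun h => absurd (inv_inv x ▸ inv_mem h) hx, fun h => absurd h hg⟩
        have e := congrArg Subtype.val (hAc.is_comm.comm ⟨x⁻¹ * g, hxg⟩ a)
        change x⁻¹ * g * (a : P) = (a : P) * (x⁻¹ * g) at e
        calc g * (a : P) = x * (x⁻¹ * g * a) := by group
          _ = x * a * (x⁻¹ * g) := by rw [e, mul_assoc]
          _ = a * g := by rw [← hax]; group
    have h1 : Nat.card ↥f.ker ≤ 2 := by
      rw [← card_map_of_injective (K := f.ker) A.subtype_injective, ← hZcard]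
      exact card_le_of_le hker
    have h2 : f.ker.index ≤ 2 := by
      rw [index_ker, ← hZcard]; exact Subgroup.card_le_card_group _
    have h3 := f.ker.card_mul_index
    rw [hA8] at h3
    have := Nat.mul_le_mul h1 h2
    omega
  refine Or.inr ?_
  clear_value d
  have hd1' := ne_one_of_orderOf_two hd2
  have hdd := sq_eq_one_of_orderOf_two hd2
  -- reduce to derived group of order 2
  have hdich : ∀ Y : Subgroup P, FreeIn Y → center P ≤ Y → Y ≤ center P ∨ IsCyclic ↥Y := by
    intro Y hY hle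
    obtain ⟨c, hc, hc1, hcd⟩ : ∃ c ∈ center P, c ≠ 1 ∧ c ≠ d := by
      by_contra hcon; push Not at hcon
      exact hsmall fun c hc => by by_cases h : c = 1; exacts [Or.inl h, Or.inr (hcon c hc h)]
    by_cases hc2 : c * c = 1
    · left
      intro y hy
      rcases hY.eq_four hP (hle hdc) (hle hc) hd2 ((eq_one_or_orderOf_two hc2).resolve_left hc1)
        (Ne.symm hcd) (fun g _ => hZcomm d hdc g) (fun g _ => hZcomm c hc g) hy
        with rfl | rfl | rfl | rfl
      exacts [one_mem _, hdc, hc, mul_mem hdc hc]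
    · right
      obtain ⟨v, hv, h1, h2⟩ := exists_four hP hc hc2
      exact hY.cyclic_of_central hP (hle hv) h1 h2 fun g _ => hZcomm v hv g
  by_cases hwide : ∃ x y : P, x * y * x⁻¹ * y⁻¹ ≠ 1 ∧ x * y * x⁻¹ * y⁻¹ ≠ d
  · -- the special case
    obtain ⟨x, y, he1, hed⟩ := hwide
    set e := x * y * x⁻¹ * y⁻¹ with hedef
    have hec : e ∈ center P := hF (commutator_mem_frattini hP x y)
    have heder : e ∈ commutator P := by
      rw [hedef, ← commutatorElement_def]
      exact commutator_mem_commutator (mem_top x) (mem_top y)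
    have heo := (eq_one_or_orderOf_two (hder2 x y)).resolve_left he1
    have hZ : ∀ f ∈ center P, f = 1 ∨ f = d ∨ f = e ∨ f = d * e := fun f hf =>
      hZfree.eq_four hP hdc hec hd2 heo (Ne.symm hed) (fun g _ => hZcomm d hdc g)
        (fun g _ => hZcomm e hec g) hf
    refine Or.inr ⟨hspecial (center P) le_rfl fun f hf => ?_, ?_⟩
    · rcases hZ f hf with rfl | rfl | rfl | rfl
      exacts [one_mem _, hdder, heder, mul_mem hdder heder]
    · have hset : (center P : Set P) = {1, d, e, d * e} := Set.ext fun f => ⟨hZ f, fun h => by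
        rcases h with rfl | rfl | rfl | rfl
        exacts [one_mem _, hdc, hec, mul_mem hdc hec]⟩
      have hde : d * e ≠ 1 := fun h => hed (by
        calc e = d * d * e := by rw [hdd, one_mul]
          _ = d := by rw [mul_assoc, h, mul_one])
      change Nat.card ↥(center P : Set P) = 4
      rw [hset, Nat.card_coe_set_eq, Set.ncard_insert_of_notMem, Set.ncard_insert_of_notMem,
        Set.ncard_insert_of_notMem, Set.ncard_singleton]
      · simp [hd1']
      · simp [Ne.symm hed, he1]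
      · simp [Ne.symm hd1', Ne.symm he1, Ne.symm hde]
  refine Or.inl ?_
  have hder : ∀ x y : P, x * y * x⁻¹ * y⁻¹ = 1 ∨ x * y * x⁻¹ * y⁻¹ = d := fun x y => by
    by_contra h; exact hwide ⟨x, y, fun e => h (Or.inl e), fun e => h (Or.inr e)⟩
  have hLd : ∀ φ ∈ L, φ d = d := by
    intro φ _
    have e : φ d = φ a1 * φ b1 * (φ a1)⁻¹ * (φ b1)⁻¹ := by
      rw [hddef, map_mul, map_mul, map_mul, map_inv, map_inv]
    rcases hder (φ a1) (φ b1) with h | h
    · exact absurd ((map_eq_one_iff φ φ.injective).mp (e.trans h)) hd1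
    · exact e.trans h
  -- squares of the centre, together with `d`
  let N : Subgroup P :=
    { carrier := {x | ∃ c ∈ center P, x = c * c ∨ x = c * c * d}
      one_mem' := ⟨1, one_mem _, Or.inl (mul_one 1).symm⟩
      mul_mem' := by
        rintro _ _ ⟨c, hc, h⟩ ⟨c', hc', h'⟩
        have e : c * c * (c' * c') = c * c' * (c * c') :=
          Commute.mul_mul_mul_comm (hZcomm c hc c') _ _
        refine ⟨c * c', mul_mem hc hc', ?_⟩
        rcases h with rfl | rfl <;> rcases h' with rfl | rfl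
        · exact Or.inl e
        · exact Or.inr (by rw [← e, mul_assoc (c * c)])
        · exact Or.inr (by rw [mul_assoc (c * c), hZcomm d hdc, ← mul_assoc (c * c), e])
        · refine Or.inl ?_
          calc c * c * d * (c' * c' * d) = c * c * (c' * c') * (d * d) :=
                Commute.mul_mul_mul_comm (hZcomm d hdc _) _ _
            _ = c * c' * (c * c') := by rw [hdd, mul_one, e]
      inv_mem' := by
        rintro _ ⟨c, hc, rfl | rfl⟩
        · exact ⟨c⁻¹, inv_mem hc, Or.inl (mul_inv_rev c c)⟩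
        · refine ⟨c⁻¹, inv_mem hc, Or.inr ?_⟩
          rw [mul_inv_rev, mul_inv_rev, inv_eq_of_mul_eq_one_right hdd, hZcomm d hdc] }
  have hNiff : ∀ x, x ∈ N ↔ ∃ c ∈ center P, x = c * c ∨ x = c * c * d := fun _ => Iff.rfl
  have hNd : ∀ x y : P, x * y * x⁻¹ * y⁻¹ ∈ N := fun x y => by
    rcases hder x y with h | h <;> rw [h]
    exacts [one_mem _, ⟨1, one_mem _, Or.inr (by rw [mul_one, one_mul])⟩]
  have hNinv : ∀ φ ∈ L, ∀ x ∈ N, φ x ∈ N := by
    rintro φ hφ _ ⟨c, hc, rfl | rfl⟩
    · exact ⟨φ c, char_inv _ φ c hc, Or.inl (map_mul φ c c)⟩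
    · exact ⟨φ c, char_inv _ φ c hc, Or.inr (by rw [map_mul, map_mul, hLd φ hφ])⟩
  have hNtwo : ∀ a ∈ center P, ∀ b ∈ center P, a ∉ N → b ∉ N → a⁻¹ * b ∈ N := by
    intro a ha b hb haN hbN
    rcases hdich (center P) hZfree le_rfl with - | hcyc
    · by_cases hexp : ∀ c ∈ center P, c * c = 1
      · have ha1 : a ≠ 1 := fun e => haN (e ▸ one_mem _)
        have had : a ≠ d := fun e => haN (e ▸ ⟨1, one_mem _, Or.inr (by rw [mul_one, one_mul])⟩)
        rcases hZfree.eq_four hP hdc ha hd2
          ((eq_one_or_orderOf_two (hexp a ha)).resolve_left ha1) (Ne.symm had)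
          (fun g _ => hZcomm d hdc g) (fun g _ => hZcomm a ha g) hb with e | e | e | e
        · exact absurd (e ▸ one_mem _) hbN
        · exact absurd (e ▸ ⟨1, one_mem _, Or.inr (by rw [mul_one, one_mul])⟩) hbN
        · rw [e, inv_mul_cancel]; exact one_mem _
        · rw [e, hZcomm d hdc a, inv_mul_cancel_left]
          exact ⟨1, one_mem _, Or.inr (by rw [mul_one, one_mul])⟩
      · push Not at hexp
        obtain ⟨c, hc, hc2⟩ := hexp
        obtain ⟨v, hv, h1, h2⟩ := exists_four hP hc hc2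
        exact cyclic_two (N := N) (hZfree.cyclic_of_central hP hv h1 h2 fun g _ => hZcomm v hv g)
          (fun g hg => ⟨g, hg, Or.inl rfl⟩) a ha b hb haN hbN
    · exact cyclic_two (N := N) hcyc (fun g hg => ⟨g, hg, Or.inl rfl⟩) a ha b hb haN hbN
  have hNle : N ≤ center P := by
    rintro _ ⟨c, hc, rfl | rfl⟩
    exacts [mul_mem hc hc, mul_mem (mul_mem hc hc) hdc]
  let K : Subgroup P :=
    { carrier := {x | x * x ∈ N}
      one_mem' := by change (1 : P) * 1 ∈ N; rw [mul_one]; exact one_mem _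
      mul_mem' := by
        intro x y hx hy
        change x * y * (x * y) ∈ N
        rw [sq_mul (hF (commutator_mem_frattini hP y x))]
        exact mul_mem (hNd y x) (mul_mem hx hy)
      inv_mem' := by
        intro x hx
        change x⁻¹ * x⁻¹ ∈ N
        rw [← mul_inv_rev]; exact inv_mem hx }
  have hK : ∀ x : P, x * x ∈ N := by
    by_contra hcon
    have hKtop : K ≠ ⊤ := fun e => hcon fun x => (e ▸ mem_top x : x ∈ K)
    have hKinv : ∀ φ ∈ L, ∀ x ∈ K, φ x ∈ K := fun φ hφ x hx => by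
      change φ x * φ x ∈ N
      rw [← map_mul]; exact hNinv φ hφ _ hx
    have hKZ : center P ≤ K := fun c hc => ⟨c, hc, Or.inl rfl⟩
    have hKtwo : ∀ a b : P, a ∉ K → b ∉ K → a⁻¹ * b ∈ K := by
      intro a b ha hb
      change a⁻¹ * b * (a⁻¹ * b) ∈ N
      rw [sq_mul (hF (commutator_mem_frattini hP b a⁻¹))]
      refine mul_mem (hNd _ _) ?_
      rw [← mul_inv_rev]
      exact hNtwo _ (hF (sq_mem_frattini hP a)) _ (hF (sq_mem_frattini hP b)) ha hb
    rcases hdich K (hfree K hKinv hKtop) hKZ with h | h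
    · exact hab (comm_of_two_central h hKtwo)
    · have hfixK := fixes_cyclic hP ho0 h (hKinv φ0 hφ0)
      refine hne (MulEquiv.ext fun x => fixed_of_stable hP ho0 hfixK ?_)
      by_cases hx : x ∈ K
      · rw [hfixK x hx, mul_inv_cancel]; exact one_mem _
      · have hx1 : x⁻¹ ∉ K := fun e => hx (inv_inv x ▸ inv_mem e)
        have hφx : (φ0 x)⁻¹ ∉ K := fun e => hx (by
          have e' := inv_inv (φ0 x) ▸ inv_mem e
          exact φ0.injective (hfixK _ e') ▸ e')
        have := hKtwo _ _ hφx hx1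
        rwa [inv_inv] at this
  by_cases hexp : ∀ c ∈ center P, c * c = 1
  · -- four-group centre
    obtain ⟨c, hc, hc1, hcd⟩ : ∃ c ∈ center P, c ≠ 1 ∧ c ≠ d := by
      by_contra hcon; push Not at hcon
      exact hsmall fun c hc => by by_cases h : c = 1; exacts [Or.inl h, Or.inr (hcon c hc h)]
    refine quat_case hP L hodd hφ0 hne hfree hab hd2 hdc hc ⟨hc1, hcd⟩ (fun f hf => ?_) hdich hLd
      hder fun x => ?_
    · rw [← hZcomm d hdc c]
      exact hZfree.eq_four hP hdc hc hd2 ((eq_one_or_orderOf_two (hexp c hc)).resolve_left hc1)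
        (Ne.symm hcd) (fun g _ => hZcomm d hdc g) (fun g _ => hZcomm c hc g) hf
    · obtain ⟨e, he, h | h⟩ := hK x
      · exact Or.inl (h.trans (hexp e he))
      · exact Or.inr (by rw [h, hexp e he, one_mul])
  · push Not at hexp
    obtain ⟨c0, hc0, hc02⟩ := hexp
    obtain ⟨v, hv, hv2, hv4⟩ := exists_four hP hc0 hc02
    have hZcyc : IsCyclic ↥(center P) :=
      hZfree.cyclic_of_central hP hv hv2 hv4 fun g _ => hZcomm v hv g
    have hinvol : ∀ f ∈ center P, f * f = 1 → f = 1 ∨ f = d := fun f hf h =>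
      (eq_one_or_orderOf_two h).imp id fun h => unique_involution_of_isCyclic hZcyc hf hdc h hd2
    have hvd : v * v = d := (hinvol _ (mul_mem hv hv) hv4).resolve_left hv2
    have hroot : ∀ x : P, ∃ e ∈ center P, x * x = e * e := fun x => by
      obtain ⟨e, he, h | h⟩ := hK x
      · exact ⟨e, he, h⟩
      · exact ⟨e * v, mul_mem he hv, by
          rw [h, ← hvd]; exact Commute.mul_mul_mul_comm (hZcomm e he v) _ _⟩
    by_cases hbig : ∀ f ∈ center P, f * f * (f * f) = 1
    · refine quat_case hP L hodd hφ0 hne hfree hab hd2 hdc hv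
        ⟨fun e => hv2 (by rw [e, mul_one]), fun e => hv2 (by rw [e]; exact hdd)⟩
        (fun f hf => ?_) hdich hLd hder fun x => ?_
      · rcases hinvol _ (mul_mem hf hf) (hbig f hf) with h | h
        · rcases hinvol f hf h with h' | h'
          exacts [Or.inl h', Or.inr (Or.inl h')]
        · have e : (v⁻¹ * f) * (v⁻¹ * f) = 1 := by
            rw [Commute.mul_mul_mul_comm (hZcomm f hf v⁻¹), h, ← mul_inv_rev, hvd, inv_mul_cancel]
          rcases hinvol _ (mul_mem (inv_mem hv) hf) e with h' | h'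
          · exact Or.inr (Or.inr (Or.inl (inv_mul_eq_one.mp h').symm))
          · exact Or.inr (Or.inr (Or.inr (by rw [← h', mul_inv_cancel_left])))
      · obtain ⟨e, he, h⟩ := hroot x
        rw [h]; exact hinvol _ (mul_mem he he) (hbig e he)
    · exfalso
      push Not at hbig
      obtain ⟨f, hf, hf4⟩ := hbig
      let Y : Subgroup P :=
        { carrier := {x | x * x * (x * x) = 1}
          one_mem' := by simp
          mul_mem' := by
            intro x y hx hy
            change x * x * (x * x) = 1 at hx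
            change y * y * (y * y) = 1 at hy
            change x * y * (x * y) * (x * y * (x * y)) = 1
            rw [sq_mul (hF (commutator_mem_frattini hP y x)),
              Commute.mul_mul_mul_comm (hZcomm _ (hF (commutator_mem_frattini hP y x)) _).symm,
              hder2, one_mul,
              Commute.mul_mul_mul_comm (hZcomm _ (hF (sq_mem_frattini hP y)) _),
              hx, hy, one_mul]
          inv_mem' := by
            intro x hx
            change x * x * (x * x) = 1 at hx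
            change x⁻¹ * x⁻¹ * (x⁻¹ * x⁻¹) = 1
            rw [← mul_inv_rev, ← mul_inv_rev, hx, inv_one] }
      have hYinv : ∀ φ ∈ L, ∀ x ∈ Y, φ x ∈ Y := fun φ _ x hx => by
        change x * x * (x * x) = 1 at hx
        change φ x * φ x * (φ x * φ x) = 1
        rw [← map_mul, ← map_mul, hx, map_one]
      have hYfree := hfree Y hYinv fun e => hf4 (e ▸ mem_top f : f ∈ Y)
      have hYcyc : IsCyclic ↥Y := hYfree.cyclic_of_central hP (show v ∈ Y from hv4) hv2 hv4
        fun g _ => hZcomm v hv g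
      refine hab fun a b => ?_
      obtain ⟨e, he, h⟩ := hroot a
      have h2 : a * e⁻¹ * (a * e⁻¹) = 1 := by
        rw [Commute.mul_mul_mul_comm (hZcomm _ (inv_mem he) a), h, ← mul_inv_rev, mul_inv_cancel]
      have ha : a ∈ center P := by
        rw [← inv_mul_cancel_right a e]
        refine mul_mem ?_ he
        rcases eq_one_or_orderOf_two h2 with h3 | h3
        · rw [h3]; exact one_mem _
        · have hm : a * e⁻¹ ∈ Y := by change _ * _ = (1 : P); rw [h2, mul_one]
          have hdY : d ∈ Y := by change _ * _ = (1 : P); rw [hdd, mul_one]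
          rw [unique_involution_of_isCyclic hYcyc hm hdY h3 hd2]; exact hdc
      exact (mem_center_iff.mp ha b).symm

end Cfsg.Agent.Fg19NcAb
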