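import Mathlib
import Cfsg.Agent.Core.Frattini
import Cfsg.Agent.Fusion.UniqueInvolution
import Cfsg.Agent.Fusion.PGroup

/-!
# 2-groups without a noncyclic abelian subgroup of order 8

`FreeIn Y`: every abelian subgroup of `Y` of order at least 8 has at most one involution.
The structure of such 2-groups in the presence of an automorphism of odd order.
-/

set_option autoImplicit false

namespace Cfsg.Agent.Fg19NcAb

open Subgroup

variable {P : Type*} [Group P]

/-- Every abelian subgroup of `Y` of order at least 8 has at most one involution. -/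
def FreeIn (Y : Subgroup P) : Prop :=
  ∀ B : Subgroup P, B ≤ Y → IsMulCommutative ↥B → 8 ≤ Nat.card ↥B →
    ∀ u ∈ B, ∀ v ∈ B, orderOf u = 2 → orderOf v = 2 → u = v

theorem FreeIn.mono {Y Y' : Subgroup P} (h : FreeIn Y) (hle : Y' ≤ Y) : FreeIn Y' :=
  fun B hB => h B (hB.trans hle)

theorem FreeIn.map {Q : Type*} [Group Q] {Y : Subgroup Q} {f : P →* Q}
    (hf : Function.Injective f) {Y' : Subgroup P} (h : FreeIn Y) (hle : Y'.map f ≤ Y) :
    FreeIn Y' := by
  intro B hB hc h8 u hu v hv hu2 hv2
  refine hf (h (B.map f) ((Subgroup.map_mono hB).trans hle) ?_ ?_ _ (mem_map_of_mem f hu) _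
    (mem_map_of_mem f hv) (by rw [orderOf_injective f hf, hu2])
    (by rw [orderOf_injective f hf, hv2]))
  · exact Subgroup.map_isMulCommutative B f
  · rwa [card_map_of_injective hf]

theorem eq_one_or_orderOf_two {u : P} (h : u * u = 1) : u = 1 ∨ orderOf u = 2 := by
  have : Fact (Nat.Prime 2) := ⟨Nat.prime_two⟩
  by_cases hu : u = 1
  · exact Or.inl hu
  · exact Or.inr (orderOf_eq_prime (by rw [pow_two, h]) hu)

theorem sq_eq_one_of_orderOf_two {u : P} (h : orderOf u = 2) : u * u = 1 := by
  have := pow_orderOf_eq_one u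
  rwa [h, pow_two] at this

theorem ne_one_of_orderOf_two {u : P} (h : orderOf u = 2) : u ≠ 1 := by
  rintro rfl
  rw [orderOf_one] at h
  omega

variable [Finite P]

/-- The basic way to use `FreeIn`: five pairwise commuting elements, two of them involutions. -/
theorem FreeIn.not_five (hP : IsPGroup 2 P) {Y : Subgroup P} (h : FreeIn Y)
    (s : Finset P) (hs : ∀ a ∈ s, a ∈ Y) (hc : ∀ a ∈ s, ∀ b ∈ s, a * b = b * a)
    (h5 : 5 ≤ s.card) {u v : P} (hu : u ∈ s) (hv : v ∈ s) (hu2 : orderOf u = 2)
    (hv2 : orderOf v = 2) : u = v := by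
  have : Fact (Nat.Prime 2) := ⟨Nat.prime_two⟩
  set B := Subgroup.closure (s : Set P) with hB
  have hsub : (s : Set P) ⊆ B := Subgroup.subset_closure
  have hcard : 5 ≤ Nat.card ↥B := by
    refine h5.trans ?_
    calc s.card = Nat.card (s : Set P) := by simp
      _ ≤ Nat.card (B : Set P) := Nat.card_mono (Set.toFinite _) hsub
      _ = Nat.card ↥B := rfl
  have h8 : 8 ≤ Nat.card ↥B := by
    obtain ⟨k, hk⟩ := IsPGroup.iff_card.mp (hP.to_subgroup B)
    rw [hk] at hcard ⊢
    rcases le_or_gt k 2 with hk2 | hk2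
    · have : 2 ^ k ≤ 2 ^ 2 := Nat.pow_le_pow_right (by norm_num) hk2
      omega
    · calc (8 : ℕ) = 2 ^ 3 := by norm_num
        _ ≤ 2 ^ k := Nat.pow_le_pow_right (by norm_num) hk2
  have hcomm : IsMulCommutative ↥B :=
    Subgroup.isMulCommutative_closure (fun a ha b hb => hc a ha b hb)
  exact h B ((Subgroup.closure_le Y).mpr hs) hcomm h8 u (hsub hu) v (hsub hv) hu2 hv2

/-- A four-group centralised by a free subgroup containing it is all of it. -/
theorem FreeIn.eq_four (hP : IsPGroup 2 P) {Y : Subgroup P} (h : FreeIn Y) {u v : P}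
    (hu : u ∈ Y) (hv : v ∈ Y) (hu2 : orderOf u = 2) (hv2 : orderOf v = 2) (hne : u ≠ v)
    (hcu : ∀ y ∈ Y, u * y = y * u) (hcv : ∀ y ∈ Y, v * y = y * v) {y : P} (hy : y ∈ Y) :
    y = 1 ∨ y = u ∨ y = v ∨ y = u * v := by
  classical
  by_contra hcon
  simp only [not_or] at hcon
  obtain ⟨y1, y2, y3, y4⟩ := hcon
  have u1 := ne_one_of_orderOf_two hu2
  have v1 := ne_one_of_orderOf_two hv2
  have uu := sq_eq_one_of_orderOf_two hu2
  have uv1 : u * v ≠ 1 := fun e => hne (by
    calc u = u * (u * v) := by rw [e, mul_one]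
      _ = v := by rw [← mul_assoc, uu, one_mul])
  have uvu : u * v ≠ u := fun e => v1 (by simpa using e)
  have uvv : u * v ≠ v := fun e => u1 (by simpa using e)
  refine hne (h.not_five hP {1, u, v, u * v, y} ?_ ?_ ?_ ?_ ?_ hu2 hv2)
  · intro a ha
    simp only [Finset.mem_insert, Finset.mem_singleton] at ha
    rcases ha with rfl | rfl | rfl | rfl | rfl
    exacts [one_mem _, hu, hv, mul_mem hu hv, hy]
  · intro a ha b hb
    simp only [Finset.mem_insert, Finset.mem_singleton] at ha hb
    have e1 : u * v = v * u := hcu v hv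
    have e2 : u * y = y * u := hcu y hy
    have e3 : v * y = y * v := hcv y hy
    have cuv : Commute u v := e1
    have cuy : Commute u y := e2
    have cvy : Commute v y := e3
    rcases ha with rfl | rfl | rfl | rfl | rfl <;> rcases hb with rfl | rfl | rfl | rfl | rfl
    all_goals first
      | exact (Commute.refl _).eq
      | exact (Commute.one_left _).eq
      | exact (Commute.one_right _).eq
      | exact cuv.eq
      | exact cuv.eq.symm
      | exact cuy.eq
      | exact cuy.eq.symm
      | exact cvy.eq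
      | exact cvy.eq.symm
      | exact ((Commute.refl _).mul_right cuv).eq
      | exact ((Commute.refl _).mul_right cuv).eq.symm
      | exact (cuv.symm.mul_right (Commute.refl _)).eq
      | exact (cuv.symm.mul_right (Commute.refl _)).eq.symm
      | exact (cuy.mul_left cvy).eq
      | exact (cuy.mul_left cvy).eq.symm
  · simp [Finset.card_insert_of_notMem, Ne.symm u1, Ne.symm v1, Ne.symm uv1, Ne.symm y1, hne,
      Ne.symm uvu, Ne.symm uvv, Ne.symm y2, Ne.symm y3, Ne.symm y4]
  · simp
  · simp

omit [Finite P] in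
/-- A generalised quaternion group has no central element of order greater than 2. -/
theorem quaternion_central_sq {n : ℕ} (hn : 2 ≤ n) (g : QuaternionGroup n)
    (hg : ∀ h, g * h = h * g) : g * g = 1 := by
  rcases g with i | i
  · have h := hg (QuaternionGroup.xa 0)
    simp only [QuaternionGroup.a_mul_xa, QuaternionGroup.xa_mul_a, QuaternionGroup.xa.injEq,
      zero_sub, zero_add] at h
    rw [QuaternionGroup.a_mul_a, QuaternionGroup.one_def]
    congr 1
    calc i + i = i + -i := by rw [h]
      _ = 0 := add_neg_cancel i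
  · have h := hg (QuaternionGroup.a 1)
    simp only [QuaternionGroup.a_mul_xa, QuaternionGroup.xa_mul_a, QuaternionGroup.xa.injEq] at h
    have h2 : ((2 : ℕ) : ZMod (2 * n)) = 0 := by
      have e : ((2 : ℕ) : ZMod (2 * n)) = (i + 1) - (i - 1) := by push_cast; ring
      rw [e, h, sub_self]
    rw [ZMod.natCast_eq_zero_iff] at h2
    have := Nat.le_of_dvd (by norm_num) h2
    omega

omit [Finite P] in
theorem two_le_two_pow {k : ℕ} (hk : 1 ≤ k) : 2 ≤ 2 ^ k :=
  (le_of_eq (pow_one 2).symm).trans (Nat.pow_le_pow_right (by norm_num) hk)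

/-- A commutative 2-group with at most one involution is cyclic. -/
theorem isCyclic_of_comm_unique (hP : IsPGroup 2 P) (hc : ∀ a b : P, a * b = b * a)
    (huniq : ∀ u v : P, orderOf u = 2 → orderOf v = 2 → u = v) : IsCyclic P := by
  rcases Fusion.cyclic_or_quaternion hP huniq with h | ⟨k, hk, ⟨e⟩⟩
  · exact h
  · exfalso
    have hn : 2 ≤ 2 ^ k := two_le_two_pow hk
    have hcomm : ∀ g h : QuaternionGroup (2 ^ k), g * h = h * g := fun g h => by
      apply e.symm.injective
      rw [map_mul, map_mul, hc]
    have h1 := quaternion_central_sq hn (QuaternionGroup.a (1 : ZMod (2 * 2 ^ k))) (hcomm _)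
    rw [QuaternionGroup.a_mul_a, QuaternionGroup.one_def, QuaternionGroup.a.injEq] at h1
    have h2 : ((2 : ℕ) : ZMod (2 * 2 ^ k)) = 0 := by rw [← h1]; push_cast; norm_num
    rw [ZMod.natCast_eq_zero_iff] at h2
    have := Nat.le_of_dvd (by norm_num) h2
    omega

/-- A free subgroup with a central element of order 4 is cyclic. -/
theorem FreeIn.cyclic_of_central (hP : IsPGroup 2 P) {Y : Subgroup P} (h : FreeIn Y) {w : P}
    (hw : w ∈ Y) (hw1 : w * w ≠ 1) (hw4 : w * w * (w * w) = 1)
    (hcw : ∀ y ∈ Y, w * y = y * w) : IsCyclic ↥Y := by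
  classical
  have : Fact (Nat.Prime 2) := ⟨Nat.prime_two⟩
  have hz : orderOf (w * w) = 2 := (eq_one_or_orderOf_two hw4).resolve_left hw1
  have huniq : ∀ u ∈ Y, orderOf u = 2 → u = w * w := by
    intro u hu hu2
    by_contra hne
    have u1 := ne_one_of_orderOf_two hu2
    have uu := sq_eq_one_of_orderOf_two hu2
    have cwu : Commute w u := hcw u hu
    have wne1 : w ≠ 1 := fun e => hw1 (by rw [e, mul_one])
    have uw : u ≠ w := fun e => hw1 (by rw [← e, uu])
    have w3 : w * w * w ≠ 1 := fun e => wne1 (by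
      calc w = (w * w * w) * w := by rw [e, one_mul]
        _ = w * w * (w * w) := by rw [mul_assoc]
        _ = 1 := hw4)
    have www : w * w ≠ w := fun e => wne1 (by simpa using e)
    have w3w : w * w * w ≠ w := fun e => hw1 (by simpa using e)
    have w3w2 : w * w * w ≠ w * w := fun e => wne1 (by simpa using e)
    have uw3 : u ≠ w * w * w := fun e => hw1 (by
      calc w * w = w * w * (w * w * (w * w)) := by rw [hw4, mul_one]
        _ = (w * w * w) * (w * w * w) := by simp only [mul_assoc]
        _ = 1 := by rw [← e, uu])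
    have cww : Commute (w * w) u := cwu.mul_left cwu
    refine hne (h.not_five hP {1, w, w * w, w * w * w, u} ?_ ?_ ?_ ?_ ?_ hu2 hz)
    · intro a ha
      simp only [Finset.mem_insert, Finset.mem_singleton] at ha
      rcases ha with rfl | rfl | rfl | rfl | rfl
      exacts [one_mem _, hw, mul_mem hw hw, mul_mem (mul_mem hw hw) hw, hu]
    · intro a ha b hb
      simp only [Finset.mem_insert, Finset.mem_singleton] at ha hb
      have c1 : Commute w (w * w) := (Commute.refl w).mul_right (Commute.refl w)
      have c2 : Commute w (w * w * w) := c1.mul_right (Commute.refl w)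
      have c3 : Commute (w * w) (w * w * w) := c2.mul_left c2
      have c4 : Commute (w * w * w) u := cww.mul_left cwu
      rcases ha with rfl | rfl | rfl | rfl | rfl <;> rcases hb with rfl | rfl | rfl | rfl | rfl
      all_goals first
        | exact (Commute.refl _).eq
        | exact (Commute.one_left _).eq
        | exact (Commute.one_right _).eq
        | exact cwu.eq
        | exact cwu.eq.symm
        | exact cww.eq
        | exact cww.eq.symm
        | exact c1.eq
        | exact c1.eq.symm
        | exact c2.eq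
        | exact c2.eq.symm
        | exact c3.eq
        | exact c3.eq.symm
        | exact c4.eq
        | exact c4.eq.symm
    · simp [Finset.card_insert_of_notMem, Ne.symm wne1, Ne.symm hw1, Ne.symm w3, Ne.symm u1,
        Ne.symm www, Ne.symm w3w, Ne.symm uw, Ne.symm w3w2, Ne.symm hne, Ne.symm uw3]
    · simp
    · simp
  have hcyc : IsCyclic ↥Y ∨ ∃ k : ℕ, 1 ≤ k ∧ Nonempty (↥Y ≃* QuaternionGroup (2 ^ k)) :=
    Fusion.cyclic_or_quaternion (hP.to_subgroup Y) (fun u v hu hv => Subtype.ext (by
      rw [huniq _ u.2 (by rwa [Subgroup.orderOf_coe]),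
        huniq _ v.2 (by rwa [Subgroup.orderOf_coe])]))
  rcases hcyc with hc | ⟨k, hk, ⟨e⟩⟩
  · exact hc
  · exfalso
    have h1 := quaternion_central_sq (two_le_two_pow hk) (e ⟨w, hw⟩) (fun g => by
      apply e.symm.injective
      rw [map_mul, map_mul, e.symm_apply_apply]
      exact Subtype.ext (hcw _ (e.symm g).2))
    rw [← map_mul, map_eq_one_iff e e.injective] at h1
    exact hw1 (congrArg Subtype.val h1)

end Cfsg.Agent.Fg19NcAb
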