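import Cfsg.Agent.Fg19NcAb.Small

/-!
# Free nonabelian 2-groups with an odd automorphism are quaternion of order 8
-/

set_option autoImplicit false

namespace Cfsg.Agent.Fg19NcAb

open Subgroup
open scoped commutatorElement

variable {P : Type*} [Group P] [Finite P]

omit [Finite P] in
theorem exists_four (hP : IsPGroup 2 P) {Y : Subgroup P} {v : P} (hv : v ∈ Y) (h : v * v ≠ 1) :
    ∃ w ∈ Y, w * w ≠ 1 ∧ w * w * (w * w) = 1 := by
  obtain ⟨k, hk⟩ := hP v
  induction k generalizing v with
  | zero => rw [pow_zero, pow_one] at hk; exact absurd (by rw [hk, mul_one]) h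
  | succ k ih =>
    by_cases h3 : v * v * (v * v) = 1
    · exact ⟨v, hv, h, h3⟩
    · exact ih (mul_mem hv hv) h3 (by rw [← pow_two, ← pow_mul, ← pow_succ', hk])

theorem commutator_mem_frattini (hP : IsPGroup 2 P) (x y : P) :
    x * y * x⁻¹ * y⁻¹ ∈ frattini P := by
  have : Fact (Nat.Prime 2) := ⟨Nat.prime_two⟩
  have := hP.isNilpotent
  rw [← commutatorElement_def]
  exact Core.commutator_le_frattini (commutator_mem_commutator (mem_top x) (mem_top y))

theorem sq_mem_frattini (hP : IsPGroup 2 P) (x : P) : x * x ∈ frattini P := by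
  have : Fact (Nat.Prime 2) := ⟨Nat.prime_two⟩
  rw [← pow_two]
  exact Core.pow_mem_frattini hP x

/-- A free nonabelian 2-group with a nontrivial odd automorphism is quaternion of order 8. -/
theorem quaternion_of_free (hP : IsPGroup 2 P) {φ : MulAut P} (hodd : Odd (orderOf φ))
    (hne : φ ≠ 1) (hfree : FreeIn (⊤ : Subgroup P)) (hnc : ∃ a b : P, a * b ≠ b * a) :
    Nonempty (P ≃* QuaternionGroup (2 ^ (0 + 1))) := by
  have : Fact (Nat.Prime 2) := ⟨Nat.prime_two⟩
  obtain ⟨a0, b0, hab⟩ := hnc
  have hF : frattini P ≤ center P :=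
    frattini_central hP hodd hne (hfree.mono le_top) (Or.inr (hfree.mono le_top))
  have hncyc : ¬ IsCyclic P := not_cyclic_of_aut hP hodd hne
  have hZsq : ∀ c ∈ center P, c * c = 1 := by
    intro c hc
    by_contra h
    obtain ⟨w, hw, h1, h2⟩ := exists_four hP hc h
    exact hncyc ((topEquiv (G := P)).isCyclic.mp
      (hfree.cyclic_of_central hP (mem_top w) h1 h2 fun y _ => (mem_center_iff.mp hw y).symm))
  have hFne : frattini P ≠ ⊥ := fun e => hab (by
    have h := commutator_mem_frattini hP a0 b0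
    rw [e, mem_bot, mul_inv_eq_one, mul_inv_eq_iff_eq_mul] at h
    exact h)
  obtain ⟨z, hzF, hzc, hz2⟩ := exists_center_involution hP (frattini P) hFne
  have hzcomm : ∀ g : P, z * g = g * z := fun g => (mem_center_iff.mp hzc g).symm
  have hZ : ∀ c ∈ center P, c = 1 ∨ c = z := by
    intro c hc
    by_contra h
    obtain ⟨h1, h2⟩ := not_or.mp h
    have hco := (eq_one_or_orderOf_two (hZsq c hc)).resolve_left h1
    have hall : ∀ g : P, g ∈ center P := fun g => by
      rcases hfree.eq_four hP (mem_top z) (mem_top c) hz2 hco (Ne.symm h2) (fun y _ => hzcomm y)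
        (fun y _ => (mem_center_iff.mp hc y).symm) (mem_top g) with rfl | rfl | rfl | rfl
      exacts [one_mem _, hzc, hc, mul_mem hzc hc]
    exact hab ((mem_center_iff.mp (hall a0) b0).symm)
  have hzz := sq_eq_one_of_orderOf_two hz2
  have hconj : ∀ x w : P, x * w * x⁻¹ = w ∨ x * w * x⁻¹ = w * z := fun x w => by
    rcases hZ _ (hF (commutator_mem_frattini hP x w)) with e | e
    · exact Or.inl (mul_inv_eq_one.mp e)
    · exact Or.inr (by rw [← hzcomm w, ← e, inv_mul_cancel_right])
  have hsq4 : ∀ x : P, x * x * (x * x) = 1 := fun x => hZsq _ (hF (sq_mem_frattini hP x))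
  have hinv : ∀ t : P, orderOf t = 2 → t ∈ center P := by
    intro t ht
    by_contra htc
    have hzt : z ≠ t := fun e => htc (e ▸ hzc)
    set C := centralizer ({t} : Set P) with hCdef
    have hC : ∀ c, c ∈ C ↔ c * t = t * c := fun c => mem_centralizer_singleton_iff
    have hfour : ∀ c ∈ C, c = 1 ∨ c = z ∨ c = t ∨ c = z * t := fun c hc =>
      (hfree.mono le_top).eq_four hP ((hC z).mpr (hzcomm t)) ((hC t).mpr rfl) hz2 ht hzt
        (fun y _ => hzcomm y) (fun y hy => ((hC y).mp hy).symm) hc
    have htwo := centralizer_two hzcomm (fun x => hconj x t)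
    have hout : ∀ ψ : MulAut P, Odd (orderOf ψ) → ψ ≠ 1 → ψ t ∉ C := by
      intro ψ ho hn hmem
      have hψt : orderOf (ψ t) = 2 := by rw [MulEquiv.orderOf_eq, ht]
      have hψz : ψ z = z := by
        have hz' : ψ z ∈ center P :=
          Subgroup.characteristic_iff_le_comap.mp centerCharacteristic ψ hzc
        rcases hZ _ hz' with e | e
        · exact absurd ((map_eq_one_iff ψ ψ.injective).mp e) (ne_one_of_orderOf_two hz2)
        · exact e
      have hfix : ψ t = t := by
        rcases hfour _ hmem with e | e | e | e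
        · exact absurd e (ne_one_of_orderOf_two hψt)
        · exact absurd (ψ.injective (e.trans hψz.symm)) (Ne.symm hzt)
        · exact e
        · exact fixed_of_odd ho e hψz (k := 1) (by rw [pow_one, pow_two, hzz])
      have hCfix : ∀ c ∈ C, ψ c = c := fun c hc => by
        rcases hfour c hc with rfl | rfl | rfl | rfl
        · exact map_one _
        · exact hψz
        · exact hfix
        · rw [map_mul, hψz, hfix]
      refine hn (MulEquiv.ext fun x => fixed_of_stable hP ho hCfix ?_)
      by_cases hx : x ∈ C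
      · rw [hCfix x hx, mul_inv_cancel]; exact one_mem _
      · have hx1 : x⁻¹ ∉ C := fun e => hx (inv_inv x ▸ inv_mem e)
        have hψx : (ψ x)⁻¹ ∉ C := fun e => hx (by
          have e' := inv_inv (ψ x) ▸ inv_mem e
          have := hCfix _ e'
          exact ψ.injective this ▸ e')
        have := htwo _ _ hψx hx1
        rwa [inv_inv] at this
    have h3 : ∀ ψ : MulAut P, Odd (orderOf ψ) → ψ ≠ 1 → ¬ (ψ t * t = t * ψ t) :=
      fun ψ ho hn e => hout ψ ho hn ((hC _).mpr e)
    have hφ2o : Odd (orderOf (φ * φ)) :=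
      Odd.of_dvd_nat hodd (orderOf_dvd_of_pow_eq_one (by
        rw [← pow_two, ← pow_mul, mul_comm, pow_mul, pow_orderOf_eq_one, one_pow]))
    have hφ2n : φ * φ ≠ 1 := fun e => by
      have h2 : orderOf φ ∣ 2 := orderOf_dvd_of_pow_eq_one (by rw [pow_two, e])
      rcases (Nat.dvd_prime Nat.prime_two).mp h2 with h2 | h2
      · exact hne (orderOf_eq_one_iff.mp h2)
      · rw [h2] at hodd; exact (by decide : ¬ Odd 2) hodd
    have hA := h3 φ hodd hne
    have hB : ¬ (φ (φ t) * t = t * φ (φ t)) := h3 _ hφ2o hφ2n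
    have hAB : ¬ (φ (φ t) * φ t = φ t * φ (φ t)) := fun e => hA (φ.injective (by
      rw [map_mul, map_mul]; exact e))
    have hd : (φ t)⁻¹ * φ (φ t) ∈ C :=
      htwo _ _ (fun e => hA ((hC _).mp e)) (fun e => hB ((hC _).mp e))
    have hu2 := sq_eq_one_of_orderOf_two (by rw [MulEquiv.orderOf_eq, ht] : orderOf (φ t) = 2)
    have hw2 := sq_eq_one_of_orderOf_two
      (by rw [MulEquiv.orderOf_eq, MulEquiv.orderOf_eq, ht] : orderOf (φ (φ t)) = 2)
    have htt := sq_eq_one_of_orderOf_two ht
    have hw : ∀ d, (φ t)⁻¹ * φ (φ t) = d → φ (φ t) = φ t * d := fun d hd' => by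
      rw [← hd', mul_inv_cancel_left]
    rcases hfour _ hd with e | e | e | e
    · exact hAB (by rw [hw _ e, mul_one])
    · exact hAB (by rw [hw _ e, mul_assoc, hzcomm (φ t)])
    · refine hA ?_
      rw [hw _ e] at hw2
      calc φ t * t = φ t * t * (φ t * φ t) := by rw [hu2, mul_one]
        _ = φ t * t * φ t * (t * t) * φ t := by rw [htt]; group
        _ = (φ t * t * (φ t * t)) * t * φ t := by simp only [mul_assoc]
        _ = t * φ t := by rw [hw2, one_mul]
    · refine hA ?_
      rw [hw _ e] at hw2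
      have hw3 : φ t * t * (φ t * t) = 1 := by
        have hc : φ t * (z * t) = z * (φ t * t) := by
          rw [← mul_assoc, ← hzcomm (φ t), mul_assoc]
        calc φ t * t * (φ t * t) = z * (φ t * t) * (z * (φ t * t)) := by
              rw [Commute.mul_mul_mul_comm (hzcomm (φ t * t)).symm, hzz, one_mul]
          _ = φ t * (z * t) * (φ t * (z * t)) := by rw [hc]
          _ = 1 := hw2
      calc φ t * t = φ t * t * (φ t * φ t) := by rw [hu2, mul_one]
        _ = φ t * t * φ t * (t * t) * φ t := by rw [htt]; group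
        _ = (φ t * t * (φ t * t)) * t * φ t := by simp only [mul_assoc]
        _ = t * φ t := by rw [hw3, one_mul]
  have huniq : ∀ u v : P, orderOf u = 2 → orderOf v = 2 → u = v := fun u v hu hv => by
    rw [(hZ u (hinv u hu)).resolve_left (ne_one_of_orderOf_two hu),
      (hZ v (hinv v hv)).resolve_left (ne_one_of_orderOf_two hv)]
  rcases Fusion.cyclic_or_quaternion hP huniq with h | ⟨k, hk, ⟨e⟩⟩
  · exact absurd h hncyc
  · have h4 : (QuaternionGroup.a (1 : ZMod (2 * 2 ^ k))) * QuaternionGroup.a 1 *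
        (QuaternionGroup.a 1 * QuaternionGroup.a 1) = 1 := by
      apply e.symm.injective
      rw [map_one, map_mul, map_mul, hsq4]
    rw [QuaternionGroup.a_mul_a, QuaternionGroup.a_mul_a, QuaternionGroup.one_def,
      QuaternionGroup.a.injEq] at h4
    have h2 : ((4 : ℕ) : ZMod (2 * 2 ^ k)) = 0 := by rw [← h4]; push_cast; norm_num
    rw [ZMod.natCast_eq_zero_iff] at h2
    have hle := Nat.le_of_dvd (by norm_num) h2
    have hk1 : k = 0 + 1 := by
      by_contra hk1
      have : 2 ^ 2 ≤ 2 ^ k := Nat.pow_le_pow_right (by norm_num) (by omega)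
      omega
    subst hk1
    exact ⟨e⟩

end Cfsg.Agent.Fg19NcAb
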