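import Cfsg.Agent.Fg19NcAb.Free

/-!
# Odd-order automorphisms of free 2-groups
-/

set_option autoImplicit false

namespace Cfsg.Agent.Fg19NcAb

open Subgroup

variable {P : Type*} [Group P] [Finite P]

omit [Finite P] in
theorem fixed_of_odd {φ : MulAut P} (hodd : Odd (orderOf φ)) {y c : P} (hy : φ y = c * y)
    (hc : φ c = c) {k : ℕ} (hck : c ^ 2 ^ k = 1) : φ y = y := by
  have hit : ∀ m : ℕ, (φ ^ m) y = c ^ m * y := by
    intro m
    induction m with
    | zero => simp
    | succ m ih => rw [pow_succ', MulAut.mul_apply, ih, map_mul, map_pow, hc, hy, pow_succ,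
        mul_assoc]
  have h1 : c ^ orderOf φ = 1 := by
    have h := hit (orderOf φ)
    rw [pow_orderOf_eq_one, MulAut.one_apply] at h
    exact mul_right_cancel (h.symm.trans (one_mul y).symm)
  have hcop : (orderOf φ).Coprime (2 ^ k) := (hodd.coprime_two_right).pow_right k
  have h2 := Nat.eq_one_of_dvd_coprimes hcop (orderOf_dvd_of_pow_eq_one h1)
    (orderOf_dvd_of_pow_eq_one hck)
  rw [orderOf_eq_one_iff] at h2
  rw [hy, h2, one_mul]

/-- An odd order automorphism that is trivial on an invariant subgroup and on its cosets. -/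
theorem fixed_of_stable (hP : IsPGroup 2 P) {φ : MulAut P} (hodd : Odd (orderOf φ))
    {Y : Subgroup P} (hfix : ∀ y ∈ Y, φ y = y) {x : P} (hx : φ x * x⁻¹ ∈ Y) : φ x = x := by
  obtain ⟨k, hk⟩ := hP (φ x * x⁻¹)
  exact fixed_of_odd hodd (inv_mul_cancel_right (φ x) x).symm (hfix _ hx) hk

theorem unique_involution_of_isCyclic {Y : Subgroup P} (hY : IsCyclic ↥Y) {u v : P} (hu : u ∈ Y)
    (hv : v ∈ Y) (hu2 : orderOf u = 2) (hv2 : orderOf v = 2) : u = v := by
  classical
  have := Fintype.ofFinite ↥Y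
  by_contra hne
  have hsub : ({1, ⟨u, hu⟩, ⟨v, hv⟩} : Finset ↥Y) ⊆ Finset.univ.filter (fun a => a ^ 2 = 1) := by
    intro a ha
    simp only [Finset.mem_insert, Finset.mem_singleton] at ha
    rw [Finset.mem_filter]
    refine ⟨Finset.mem_univ _, ?_⟩
    rcases ha with rfl | rfl | rfl
    · simp
    · exact Subtype.ext (by simp [pow_two, sq_eq_one_of_orderOf_two hu2])
    · exact Subtype.ext (by simp [pow_two, sq_eq_one_of_orderOf_two hv2])
  have h := (Finset.card_le_card hsub).trans (IsCyclic.card_pow_eq_one_le (α := ↥Y) two_pos)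
  have n1 : (1 : ↥Y) ≠ ⟨u, hu⟩ := fun e =>
    ne_one_of_orderOf_two hu2 (congrArg Subtype.val e).symm
  have n2 : (1 : ↥Y) ≠ ⟨v, hv⟩ := fun e =>
    ne_one_of_orderOf_two hv2 (congrArg Subtype.val e).symm
  have n3 : (⟨u, hu⟩ : ↥Y) ≠ ⟨v, hv⟩ := fun e => hne (congrArg Subtype.val e)
  simp [Finset.card_insert_of_notMem, n1, n2, n3] at h

/-- An odd order automorphism fixes an invariant cyclic 2-subgroup elementwise. -/
theorem fixes_cyclic (hP : IsPGroup 2 P) {φ : MulAut P} (hodd : Odd (orderOf φ))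
    {Y : Subgroup P} (hY : IsCyclic ↥Y) (hinv : ∀ y ∈ Y, φ y ∈ Y) : ∀ y ∈ Y, φ y = y := by
  suffices h : ∀ k : ℕ, ∀ y ∈ Y, y ^ 2 ^ k = 1 → φ y = y by
    intro y hy
    obtain ⟨k, hk⟩ := hP y
    exact h k y hy hk
  intro k
  induction k with
  | zero => intro y _ h; rw [pow_zero, pow_one] at h; rw [h, map_one]
  | succ k ih =>
    intro y hy h
    have hc := hY.commGroup
    have hsq : φ (y * y) = y * y :=
      ih _ (mul_mem hy hy) (by rw [← pow_two, ← pow_mul, ← pow_succ', h])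
    set c := φ y * y⁻¹ with hcdef
    have hcY : c ∈ Y := mul_mem (hinv y hy) (inv_mem hy)
    have hcomm : φ y * y⁻¹ = y⁻¹ * φ y := by
      obtain ⟨g, hg⟩ := IsCyclic.exists_generator (α := ↥Y)
      obtain ⟨i, hi⟩ := mem_zpowers_iff.mp (hg ⟨φ y, hinv y hy⟩)
      obtain ⟨j, hj⟩ := mem_zpowers_iff.mp (hg ⟨y⁻¹, inv_mem hy⟩)
      have hcomm' : (⟨φ y, hinv y hy⟩ : ↥Y) * ⟨y⁻¹, inv_mem hy⟩ =
          ⟨y⁻¹, inv_mem hy⟩ * ⟨φ y, hinv y hy⟩ := by
        rw [← hi, ← hj, ← zpow_add, ← zpow_add, add_comm]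
      exact congrArg Subtype.val hcomm'
    have hc2 : c * c = 1 := by
      calc c * c = φ y * y⁻¹ * (y⁻¹ * φ y) := by rw [hcdef, ← hcomm]
        _ = φ y * (y * y)⁻¹ * φ y := by group
        _ = φ y * (φ y * φ y)⁻¹ * φ y := by rw [← hsq, map_mul]
        _ = 1 := by group
    have hcfix : φ c = c := by
      rcases eq_one_or_orderOf_two hc2 with h1 | h1
      · rw [h1, map_one]
      · exact unique_involution_of_isCyclic hY (hinv c hcY) hcY
          (by rw [MulEquiv.orderOf_eq, h1]) h1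
    exact fixed_of_odd hodd (inv_mul_cancel_right (φ y) y).symm hcfix (k := 1)
      (by rw [pow_one, pow_two, hc2])

omit [Finite P] in
/-- A subgroup all of whose non-members differ by members is a coatom or everything. -/
theorem isCoatom_or_top {H : Subgroup P} (h : ∀ a b : P, a ∉ H → b ∉ H → a⁻¹ * b ∈ H) :
    H = ⊤ ∨ IsCoatom H := by
  by_cases ht : H = ⊤
  · exact Or.inl ht
  · refine Or.inr ⟨ht, fun K hK => ?_⟩
    obtain ⟨a, haK, haH⟩ := SetLike.exists_of_lt hK
    refine eq_top_iff.mpr fun b _ => ?_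
    by_cases hb : b ∈ H
    · exact hK.le hb
    · rw [← mul_inv_cancel_left a b]
      exact mul_mem haK (hK.le (h a b haH hb))

omit [Finite P] in
theorem frattini_le_of_two {H : Subgroup P} (h : ∀ a b : P, a ∉ H → b ∉ H → a⁻¹ * b ∈ H) :
    frattini P ≤ H := by
  rcases isCoatom_or_top h with h1 | h1
  · rw [h1]; exact le_top
  · exact frattini_le_coatom h1

omit [Finite P] in
/-- `w` has at most two conjugates `w`, `w z` for central `z`. -/
theorem centralizer_two {w z : P} (_hz : ∀ g : P, z * g = g * z)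
    (hw : ∀ x : P, x * w * x⁻¹ = w ∨ x * w * x⁻¹ = w * z) :
    ∀ a b : P, a ∉ centralizer ({w} : Set P) → b ∉ centralizer ({w} : Set P) →
      a⁻¹ * b ∈ centralizer ({w} : Set P) := by
  intro a b ha hb
  have hc : ∀ c : P, c ∈ centralizer ({w} : Set P) ↔ c * w * c⁻¹ = w := fun c => by
    rw [mem_centralizer_singleton_iff, mul_inv_eq_iff_eq_mul]
  rw [hc] at ha hb ⊢
  have e1 := (hw a).resolve_left ha
  have e2 := (hw b).resolve_left hb
  calc a⁻¹ * b * w * (a⁻¹ * b)⁻¹ = a⁻¹ * (b * w * b⁻¹) * a := by group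
    _ = a⁻¹ * (a * w * a⁻¹) * a := by rw [e1, e2]
    _ = w := by group

/-- The step below a central subgroup: some element outside moves only by it. -/
theorem exists_central_step (hP : IsPGroup 2 P) (N Z : Subgroup P) [N.Normal] [Z.Normal]
    (hlt : Z < N) : ∃ w ∈ N, w ∉ Z ∧ ∀ x : P, x * w * x⁻¹ * w⁻¹ ∈ Z := by
  have : Fact (Nat.Prime 2) := ⟨Nat.prime_two⟩
  have hsurj : Function.Surjective (QuotientGroup.mk' Z) := QuotientGroup.mk'_surjective Z
  have hne : N.map (QuotientGroup.mk' Z) ≠ ⊥ := fun e => by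
    rw [Subgroup.map_eq_bot_iff, QuotientGroup.ker_mk'] at e
    exact not_le_of_gt hlt e
  have := Subgroup.Normal.map (inferInstance : N.Normal) (QuotientGroup.mk' Z) hsurj
  obtain ⟨⟨t, ht⟩, htne⟩ := Subgroup.ne_bot_iff_exists_ne_one.mp
    (Fusion.pGroup_inf_center_ne_bot (hP.to_quotient Z) (N.map (QuotientGroup.mk' Z)) hne)
  have ht1 : t ≠ 1 := fun e => htne (Subtype.ext e)
  obtain ⟨⟨w, hw, hwt⟩, hc⟩ := ht
  refine ⟨w, hw, fun hwZ => ht1 ?_, fun x => ?_⟩
  · rw [← hwt]; exact (QuotientGroup.eq_one_iff w).mpr hwZ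
  · rw [← QuotientGroup.eq_one_iff (N := Z)]
    have h := Subgroup.mem_center_iff.mp hc (QuotientGroup.mk' Z x)
    rw [← hwt] at h
    change (QuotientGroup.mk' Z) (x * w * x⁻¹ * w⁻¹) = 1
    rw [map_mul, map_mul, map_mul, map_inv, map_inv, h, mul_inv_cancel_right, mul_inv_cancel]

theorem exists_center_involution (hP : IsPGroup 2 P) (N : Subgroup P) [N.Normal] (hN : N ≠ ⊥) :
    ∃ z ∈ N, z ∈ center P ∧ orderOf z = 2 := by
  have : Fact (Nat.Prime 2) := ⟨Nat.prime_two⟩
  have h := Fusion.pGroup_inf_center_ne_bot hP N hN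
  obtain ⟨z, hz⟩ := exists_prime_orderOf_dvd_card' 2
    (((hP.to_subgroup (N ⊓ center P)).card_eq_or_dvd).resolve_left
      (fun h1 => h (card_eq_one.1 h1)))
  exact ⟨z, z.2.1, z.2.2, (orderOf_coe z).trans hz⟩

theorem not_cyclic_of_aut (hP : IsPGroup 2 P) {φ : MulAut P} (hodd : Odd (orderOf φ))
    (hne : φ ≠ 1) : ¬ IsCyclic P := by
  intro hc
  have : IsCyclic ↥(⊤ : Subgroup P) := (topEquiv (G := P)).isCyclic.mpr hc
  exact hne (MulEquiv.ext fun x =>
    fixes_cyclic hP hodd this (fun y _ => mem_top _) x (mem_top x))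

/-- A free Frattini subgroup with free or full centralizer is central. -/
theorem frattini_central (hP : IsPGroup 2 P) {φ : MulAut P} (hodd : Odd (orderOf φ))
    (hne : φ ≠ 1) (hF : FreeIn (frattini P))
    (hC : centralizer (frattini P : Set P) = ⊤ ∨ FreeIn (centralizer (frattini P : Set P))) :
    frattini P ≤ center P := by
  have : Fact (Nat.Prime 2) := ⟨Nat.prime_two⟩
  set F := frattini P with hFdef
  set C := centralizer (F : Set P) with hCdef
  have hCiff : ∀ c, c ∈ C ↔ ∀ f ∈ F, f * c = c * f := fun c => mem_centralizer_iff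
  have hFn : F.Normal := by rw [hFdef]; infer_instance
  by_contra hnc
  have hCtop : C ≠ ⊤ := fun e => hnc fun f hf => mem_center_iff.mpr fun g =>
    (mem_centralizer_iff.mp (show g ∈ C from e ▸ mem_top g) f hf).symm
  replace hC := hC.resolve_left hCtop
  have hFne : F ≠ ⊥ := fun e => hnc (e ▸ bot_le)
  obtain ⟨z, hzF, hzc, hz2⟩ := exists_center_involution hP F hFne
  have hzcomm : ∀ g : P, z * g = g * z := fun g => (mem_center_iff.mp hzc g).symm
  have hzn : (zpowers z).Normal := by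
    refine ⟨fun a ha g => ?_⟩
    have : a ∈ center P := (zpowers_le.mpr hzc) ha
    rw [mem_center_iff.mp this g, mul_inv_cancel_right]
    exact ha
  have hlt : zpowers z < F := lt_of_le_of_ne (zpowers_le.mpr hzF) fun e => hnc fun f hf =>
    (zpowers_le.mpr hzc) (e ▸ hf)
  obtain ⟨w, hwF, hwz, hw⟩ := exists_central_step hP F (zpowers z) hlt
  have hmem : ∀ a ∈ zpowers z, a = 1 ∨ a = z := by
    intro a ha
    obtain ⟨n, rfl⟩ := mem_zpowers_iff.mp ha
    rw [← zpow_mod_orderOf z n, hz2]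
    rcases Int.emod_two_eq n with e | e <;> simp [e]
  have hw' : ∀ x : P, x * w * x⁻¹ = w ∨ x * w * x⁻¹ = w * z := fun x => by
    rcases hmem _ (hw x) with e | e
    · exact Or.inl (mul_inv_eq_one.mp e)
    · exact Or.inr (by rw [← hzcomm w, ← e, inv_mul_cancel_right])
  have hFle : F ≤ centralizer ({w} : Set P) := frattini_le_of_two (centralizer_two hzcomm hw')
  have hwC : w ∈ C := (hCiff w).mpr fun f hf => mem_centralizer_singleton_iff.mp (hFle hf)
  have hzC : z ∈ C := (hCiff z).mpr fun f _ => (hzcomm f).symm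
  by_cases hw2 : w * w = 1
  · -- four-group case
    have hwo : orderOf w = 2 := (eq_one_or_orderOf_two hw2).resolve_left
      fun e => hwz (e ▸ one_mem _)
    have hzw : z ≠ w := fun e => hwz (e ▸ mem_zpowers z)
    have hfour : ∀ c ∈ C, c = 1 ∨ c = z ∨ c = w ∨ c = z * w := fun c hc =>
      hC.eq_four hP hzC hwC hz2 hwo hzw (fun y _ => hzcomm y)
        (fun y hy => (hCiff y).mp hy w hwF) hc
    have hFfour : ∀ f ∈ F, f = 1 ∨ f = z ∨ f = w ∨ f = z * w := fun f hf =>
      hF.eq_four hP hzF hwF hz2 hwo hzw (fun y _ => hzcomm y)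
        (fun y hy => (mem_centralizer_singleton_iff.mp (hFle hy)).symm) hf
    have hCF : C ≤ F := fun c hc => by
      rcases hfour c hc with rfl | rfl | rfl | rfl
      exacts [one_mem _, hzF, hwF, mul_mem hzF hwF]
    have hcw : centralizer ({w} : Set P) ≤ C := fun c hc => (hCiff c).mpr fun f hf => by
      have e := mem_centralizer_singleton_iff.mp hc
      rcases hFfour f hf with rfl | rfl | rfl | rfl
      · rw [one_mul, mul_one]
      · exact hzcomm c
      · exact e.symm
      · rw [mul_assoc, ← e, ← mul_assoc, hzcomm c, mul_assoc]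
    have hCeq : centralizer ({w} : Set P) = F := le_antisymm (hcw.trans hCF) hFle
    obtain ⟨x, -, hx⟩ : ∃ x ∈ (⊤ : Subgroup P), x ∉ F := by
      by_contra hcon
      push Not at hcon
      exact hCtop (eq_top_iff.mpr fun y hy => hcw (hCeq ▸ hcon y hy))
    have hco : IsCoatom F := by
      rw [← hCeq]
      exact (isCoatom_or_top (centralizer_two hzcomm hw')).resolve_left
        fun e => hx ((hCeq ▸ e : F = ⊤) ▸ mem_top x)
    have htop : zpowers x ⊔ F = ⊤ := hco.2 _ (lt_of_le_of_ne le_sup_right fun e =>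
      hx (e ▸ mem_sup_left (mem_zpowers x)))
    have hx' : zpowers x = ⊤ := frattini_nongenerating (hFdef ▸ htop)
    exact not_cyclic_of_aut hP hodd hne
      (isCyclic_iff_exists_zpowers_eq_top.mpr ⟨x, hx'⟩)
  · -- cyclic case
    have h4 : ∀ k : ℕ, ∀ v ∈ F, v ∈ C → v * v ≠ 1 → v ^ 2 ^ k = 1 →
        ∃ v ∈ F, v ∈ C ∧ v * v ≠ 1 ∧ v * v * (v * v) = 1 := by
      intro k
      induction k with
      | zero => intro v _ _ h1 h2; rw [pow_zero, pow_one] at h2; exact absurd (by rw [h2, mul_one]) h1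
      | succ k ih =>
        intro v hv hvC h1 h2
        by_cases h3 : v * v * (v * v) = 1
        · exact ⟨v, hv, hvC, h1, h3⟩
        · exact ih (v * v) (mul_mem hv hv) (mul_mem hvC hvC) h3
            (by rw [← pow_two, ← pow_mul, ← pow_succ', h2])
    obtain ⟨k, hk⟩ := hP w
    replace h4 := h4 k w hwF hwC hw2 hk
    obtain ⟨v, hvF, hvC, hv2, hv4⟩ := h4
    have hcyc : IsCyclic ↥C := hC.cyclic_of_central hP hvC hv2 hv4
      fun c hc => (hCiff c).mp hc v hvF
    have hFinv : ∀ f ∈ F, φ f ∈ F := fun f hf => by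
      have := Subgroup.characteristic_iff_le_comap.mp
        (inferInstance : (frattini P).Characteristic) φ hf
      exact this
    have hFinv' : ∀ f ∈ F, φ⁻¹ f ∈ F := fun f hf => by
      have := Subgroup.characteristic_iff_le_comap.mp
        (inferInstance : (frattini P).Characteristic) φ⁻¹ hf
      exact this
    have hCinv : ∀ c ∈ C, φ c ∈ C := fun c hc => (hCiff _).mpr fun f hf => by
      have e := (hCiff c).mp hc _ (hFinv' f hf)
      simpa using congrArg φ e
    have hfix := fixes_cyclic hP hodd hcyc hCinv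
    have hFcyc : IsCyclic ↥F := hF.cyclic_of_central hP hvF hv2 hv4
      fun f hf => ((hCiff v).mp hvC f hf).symm
    have hFC : F ≤ C := fun f hf => (hCiff f).mpr fun f' hf' => by
      obtain ⟨g, hg⟩ := IsCyclic.exists_generator (α := ↥F)
      obtain ⟨i, hi⟩ := mem_zpowers_iff.mp (hg ⟨f', hf'⟩)
      obtain ⟨j, hj⟩ := mem_zpowers_iff.mp (hg ⟨f, hf⟩)
      have e : (⟨f', hf'⟩ : ↥F) * ⟨f, hf⟩ = ⟨f, hf⟩ * ⟨f', hf'⟩ := by
        rw [← hi, ← hj, ← zpow_add, ← zpow_add, add_comm]
      exact congrArg Subtype.val e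
    refine hne (MulEquiv.ext fun x => fixed_of_stable hP hodd hfix ?_)
    refine (hCiff _).mpr fun f hf => ?_
    have e1 : φ (x⁻¹ * f * x) = x⁻¹ * f * x := hfix _ (hFC (hFn.conj_mem' f hf x))
    rw [map_mul, map_mul, map_inv, hfix f (hFC hf)] at e1
    have e2 : f * φ x = φ x * (x⁻¹ * f * x) := by rw [← e1]; group
    calc f * (φ x * x⁻¹) = f * φ x * x⁻¹ := by group
      _ = φ x * (x⁻¹ * f * x) * x⁻¹ := by rw [e2]
      _ = φ x * x⁻¹ * f := by group

end Cfsg.Agent.Fg19NcAb
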