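import Cfsg.Agent.Fg19NcAb.Quat

/-!
# An abelian noncyclic subgroup of order 8 next to a self-centralising four or quaternion group
-/

set_option autoImplicit false

namespace Cfsg.Agent.Fg19NcAb

open Subgroup

theorem q8_sq : ∀ x : QuaternionGroup 2, x * x = 1 → x = 1 ∨ x = QuaternionGroup.a 2 := by
  decide +kernel

theorem q8_sq' : ∀ x : QuaternionGroup 2,
    x * x ≠ 1 → x * x = QuaternionGroup.a 2 := by
  decide +kernel

theorem q8_partner : ∀ i : QuaternionGroup 2, i * i ≠ 1 → ∃ j, j * i ≠ i * j := by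
  decide +kernel

theorem q8_outside : ∀ i j y : QuaternionGroup 2, j * i ≠ i * j → y * i ≠ i * y →
    y = j ∨ y = i * j ∨ y = i * i * j ∨ y = i * i * i * j := by
  decide +kernel

set_option synthInstance.maxSize 4000 in
theorem q8_inner : ∀ i j u v : QuaternionGroup 2, j * i ≠ i * j → (u = i ∨ u = i * (i * i)) →
    (v = j ∨ v = j * (i * i)) → ∃ r, r * i * r⁻¹ = u ∧ r * j * r⁻¹ = v := by
  decide +kernel

theorem q8_gen : ∀ i j x : QuaternionGroup 2, j * i ≠ i * j → x * i = i * x → x * j = j * x →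
    x * x = 1 := by
  decide +kernel

theorem q8_sq_comm : ∀ x y : QuaternionGroup 2, x * x = 1 → x * y = y * x := by
  decide +kernel

theorem q8_word : ∀ i j y : QuaternionGroup 2, j * i ≠ i * j →
    y = 1 ∨ y = i ∨ y = i * i ∨ y = i * i * i ∨ y = j ∨ y = i * j ∨ y = i * i * j ∨
      y = i * i * i * j := by
  decide +kernel

variable {T : Type*} [Group T] [Finite T]

omit [Finite T] in
theorem quat_fact {Q : Subgroup T} (e : ↥Q ≃* QuaternionGroup 2) {x : T} (hx : x ∈ Q)
    (h : x * x ≠ 1) : e ⟨x, hx⟩ * e ⟨x, hx⟩ ≠ 1 := fun h' => h (by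
  rw [← map_mul, map_eq_one_iff e e.injective] at h'
  exact congrArg Subtype.val h')

/-- Half of a group is the complement of a subgroup at most. -/
theorem two_mul_card_ge {A B : Subgroup T}
    (h : ∀ a ∈ A, ∀ b ∈ A, a ∉ B → b ∉ B → a⁻¹ * b ∈ B) :
    Nat.card ↥A ≤ 2 * Nat.card ↥(A ⊓ B) := by
  classical
  by_cases hall : A ≤ B
  · rw [inf_eq_left.mpr hall]; omega
  · obtain ⟨a, haA, haB⟩ := (Set.not_subset.mp hall : ∃ a, a ∈ A ∧ a ∉ B)
    have hsub : (A : Set T) ⊆ ((A ⊓ B : Subgroup T) : Set T) ∪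
        (fun c => a * c) '' ((A ⊓ B : Subgroup T) : Set T) := by
      intro b hb
      by_cases hbB : b ∈ B
      · exact Or.inl ⟨hb, hbB⟩
      · exact Or.inr ⟨a⁻¹ * b, Subgroup.mem_inf.mpr ⟨A.mul_mem (A.inv_mem haA) hb, h a haA b hb haB hbB⟩,
          mul_inv_cancel_left a b⟩
    have h1 := (Set.ncard_le_ncard hsub (Set.toFinite _)).trans (Set.ncard_union_le _ _)
    rw [Set.ncard_image_of_injective _ (mul_right_injective a)] at h1
    rw [← Nat.card_coe_set_eq, ← Nat.card_coe_set_eq] at h1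
    simp only [SetLike.coe_sort_coe] at h1
    omega

/-- The four-group case. -/
theorem no_ncab_four (hT : IsPGroup 2 T) (Q : Subgroup T) [Q.Normal]
    (hCQ : centralizer (Q : Set T) ≤ Q) (hQ4 : Nat.card ↥Q = 4)
    (A : Subgroup T) (hAc : IsMulCommutative ↥A) (hA8 : Nat.card ↥A = 8) : False := by
  classical
  have : Fact (Nat.Prime 2) := ⟨Nat.prime_two⟩
  have hQne : Q ≠ ⊥ := fun e => by rw [e, card_bot] at hQ4; omega
  obtain ⟨z, hzQ, hzc, hz2⟩ := exists_center_involution hT Q hQne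
  have hzcomm : ∀ g : T, z * g = g * z := fun g => (mem_center_iff.mp hzc g).symm
  have hz1 := ne_one_of_orderOf_two hz2
  obtain ⟨v, hvQ, hv1, hvz⟩ : ∃ v ∈ Q, v ≠ 1 ∧ v ≠ z := by
    by_contra hcon
    push Not at hcon
    have hsub : (Q : Set T) ⊆ {1, z} := fun v hv => by
      by_cases h : v = 1
      · exact Or.inl h
      · exact Or.inr (hcon v hv h)
    have h1 := Set.ncard_le_ncard hsub (Set.toFinite _)
    rw [← Nat.card_coe_set_eq] at h1
    have h2 := Set.ncard_insert_le 1 ({z} : Set T)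
    rw [Set.ncard_singleton] at h2
    simp only [SetLike.coe_sort_coe] at h1
    omega
  have hQel : ∀ q ∈ Q, q = 1 ∨ q = z ∨ q = v ∨ q = z * v := by
    intro q hq
    by_contra hcon
    simp only [not_or] at hcon
    obtain ⟨c1, c2, c3, c4⟩ := hcon
    have hsub : (({1, z, v, z * v, q} : Finset T) : Set T) ⊆ Q := by
      intro a ha
      simp only [Finset.mem_coe, Finset.mem_insert, Finset.mem_singleton] at ha
      rcases ha with rfl | rfl | rfl | rfl | rfl
      exacts [one_mem _, hzQ, hvQ, mul_mem hzQ hvQ, hq]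
    have h1 := Set.ncard_le_ncard hsub (Set.toFinite _)
    have hzv : z * v ≠ 1 := fun e => hvz (by
      calc v = z * z * v := by rw [sq_eq_one_of_orderOf_two hz2, one_mul]
        _ = z := by rw [mul_assoc, e, mul_one])
    have hzvz : z * v ≠ z := fun e => hv1 (by simpa using e)
    have hzvv : z * v ≠ v := fun e => hz1 (by simpa using e)
    rw [Set.ncard_coe_finset, ← Nat.card_coe_set_eq] at h1
    simp only [SetLike.coe_sort_coe] at h1
    rw [hQ4] at h1
    simp [Finset.card_insert_of_notMem, Ne.symm hz1, Ne.symm hv1, Ne.symm hvz, Ne.symm hzv,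
      Ne.symm c1, Ne.symm c2, Ne.symm c3, Ne.symm c4, Ne.symm hzvz, Ne.symm hzvv] at h1
  have hv : ∀ x : T, x * v * x⁻¹ = v ∨ x * v * x⁻¹ = v * z := by
    intro x
    rcases hQel _ ((inferInstance : Q.Normal).conj_mem v hvQ x) with e | e | e | e
    · rw [conj_eq_one_iff] at e; exact absurd e hv1
    · refine absurd ?_ hvz
      rw [mul_inv_eq_iff_eq_mul, hzcomm x] at e
      exact mul_left_cancel e
    · exact Or.inl e
    · exact Or.inr (by rw [e, hzcomm v])
  have htwo := centralizer_two hzcomm hv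
  have h4 := two_mul_card_ge (A := A) (B := centralizer ({v} : Set T))
    (fun a _ b _ ha hb => htwo a b ha hb)
  have hle : A ⊓ centralizer ({v} : Set T) ≤ Q := fun a ha => hCQ (mem_centralizer_iff.mpr
    fun q hq => by
      have e : a * v = v * a := mem_centralizer_singleton_iff.mp ha.2
      rcases hQel q hq with rfl | rfl | rfl | rfl
      · rw [one_mul, mul_one]
      · exact hzcomm a
      · exact e.symm
      · rw [mul_assoc, ← e, ← mul_assoc, hzcomm a, mul_assoc])
  have heq : A ⊓ centralizer ({v} : Set T) = Q := by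
    refine eq_of_le_of_card_ge hle ?_
    rw [hQ4]; omega
  have hAQ : A ≤ Q := fun a ha => hCQ (mem_centralizer_iff.mpr fun q hq => by
    have := hAc.is_comm.comm ⟨q, (heq.ge hq).1⟩ ⟨a, ha⟩
    exact congrArg Subtype.val this)
  have := card_le_of_le hAQ
  omega

/-- The quaternion case. -/
theorem no_ncab_quat (hT : IsPGroup 2 T) (Q : Subgroup T) [Q.Normal]
    (hCQ : centralizer (Q : Set T) ≤ Q) (e : ↥Q ≃* QuaternionGroup 2)
    (A : Subgroup T) (hAc : IsMulCommutative ↥A) (hAn : ¬ IsCyclic ↥A) (hA8 : Nat.card ↥A = 8) :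
    False := by
  classical
  have : Fact (Nat.Prime 2) := ⟨Nat.prime_two⟩
  have hQn := (inferInstance : Q.Normal)
  let E : ∀ {x : T}, x ∈ Q → QuaternionGroup 2 := fun {x} hx => e ⟨x, hx⟩
  have hEm : ∀ {x y : T} (hx : x ∈ Q) (hy : y ∈ Q), E (mul_mem hx hy) = E hx * E hy :=
    fun {x y} hx hy => map_mul e ⟨x, hx⟩ ⟨y, hy⟩
  have hEi : ∀ {x : T} (hx : x ∈ Q), E (inv_mem hx) = (E hx)⁻¹ :=
    fun {x} hx => map_inv e ⟨x, hx⟩
  have hinj : ∀ {x y : T} (hx : x ∈ Q) (hy : y ∈ Q), E hx = E hy → x = y :=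
    fun {x y} hx hy h => congrArg Subtype.val (e.injective h)
  have hE1 : E (one_mem Q) = 1 := map_one e
  have hQne : Q ≠ ⊥ := fun h => by
    have hc := Nat.card_congr e.toEquiv
    rw [Nat.card_eq_fintype_card (α := QuaternionGroup 2), QuaternionGroup.card, h, card_bot] at hc
    omega
  obtain ⟨z, hzQ, hzc, hz2⟩ := exists_center_involution hT Q hQne
  have hzcomm : ∀ g : T, z * g = g * z := fun g => (mem_center_iff.mp hzc g).symm
  have hz1 := ne_one_of_orderOf_two hz2
  have hzz := sq_eq_one_of_orderOf_two hz2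
  have hzE : E hzQ = QuaternionGroup.a 2 := by
    refine (q8_sq _ ?_).resolve_left fun h => hz1 (hinj hzQ (one_mem _) (h.trans hE1.symm))
    rw [← hEm hzQ hzQ, ← hE1]
    simp only [hzz]
  have hsq : ∀ {x : T} (hx : x ∈ Q), x * x = 1 → x = 1 ∨ x = z := fun {x} hx h => by
    have h1 : E hx * E hx = 1 := by rw [← hEm hx hx, ← hE1]; simp only [h]
    rcases q8_sq _ h1 with h2 | h2
    · exact Or.inl (hinj hx (one_mem _) (h2.trans hE1.symm))
    · exact Or.inr (hinj hx hzQ (h2.trans hzE.symm))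
  have hsq' : ∀ {x : T} (hx : x ∈ Q), x * x ≠ 1 → x * x = z := fun {x} hx h =>
    hinj (mul_mem hx hx) hzQ (by
      rw [hEm hx hx, hzE]; exact q8_sq' _ (quat_fact e hx h))
  have hzn : (zpowers z).Normal := by
    refine ⟨fun a ha g => ?_⟩
    have : a ∈ center T := (zpowers_le.mpr hzc) ha
    rw [mem_center_iff.mp this g, mul_inv_cancel_right]
    exact ha
  have hmem : ∀ a ∈ zpowers z, a = 1 ∨ a = z := by
    intro a ha
    obtain ⟨n, rfl⟩ := mem_zpowers_iff.mp ha
    rw [← zpow_mod_orderOf z n, hz2]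
    rcases Int.emod_two_eq n with h | h <;> simp [h]
  have hlt : zpowers z < Q := lt_of_le_of_ne (zpowers_le.mpr hzQ) fun h => by
    have hc := Nat.card_congr e.toEquiv
    rw [Nat.card_eq_fintype_card (α := QuaternionGroup 2), QuaternionGroup.card, ← h,
      Nat.card_zpowers, hz2] at hc
    omega
  obtain ⟨i, hiQ, hiz, hi⟩ := exists_central_step hT Q (zpowers z) hlt
  have hii : i * i ≠ 1 := fun h => hiz (by
    rcases hsq hiQ h with rfl | rfl
    exacts [one_mem _, mem_zpowers _])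
  -- membership criterion in terms of a noncommuting pair
  have key : ∀ {p q : T} (hp : p ∈ Q) (hq : q ∈ Q), q * p ≠ p * q → p * p ≠ 1 → ∀ x : T,
      (x * p * x⁻¹ = p ∨ x * p * x⁻¹ = p * z) → (x * q * x⁻¹ = q ∨ x * q * x⁻¹ = q * z) →
        x ∈ Q := by
    intro p q hp hq hpq hpp x h1 h2
    have hpz : E (mul_mem hp hp) = E hzQ := by simp only [hsq' hp hpp]
    rw [hEm hp hp] at hpz
    have hne : E hq * E hp ≠ E hp * E hq := fun h => hpq
      (hinj (mul_mem hq hp) (mul_mem hp hq) (by rw [hEm hq hp, hEm hp hq, h]))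
    have hx1 := hQn.conj_mem p hp x
    have hx2 := hQn.conj_mem q hq x
    obtain ⟨r, hr1, hr2⟩ := q8_inner (E hp) (E hq) (E hx1) (E hx2) hne
      (by
        rcases h1 with h | h
        · left; simp only [h]
        · right; rw [hpz, ← hEm hp hzQ]; simp only [h])
      (by
        rcases h2 with h | h
        · left; simp only [h]
        · right; rw [hpz, ← hEm hq hzQ]; simp only [h])
    obtain ⟨⟨r, hrQ⟩, rfl⟩ := e.surjective r
    have e1 : r * p * r⁻¹ = x * p * x⁻¹ :=
      hinj (mul_mem (mul_mem hrQ hp) (inv_mem hrQ)) hx1 (by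
        rw [hEm (mul_mem hrQ hp) (inv_mem hrQ), hEm hrQ hp, hEi hrQ]; exact hr1)
    have e2 : r * q * r⁻¹ = x * q * x⁻¹ :=
      hinj (mul_mem (mul_mem hrQ hq) (inv_mem hrQ)) hx2 (by
        rw [hEm (mul_mem hrQ hq) (inv_mem hrQ), hEm hrQ hq, hEi hrQ]; exact hr2)
    have c1 : Commute (r⁻¹ * x) p := mul_inv_eq_iff_eq_mul.mp (by
      calc r⁻¹ * x * p * (r⁻¹ * x)⁻¹ = r⁻¹ * (x * p * x⁻¹) * r := by group
        _ = p := by rw [← e1]; group)
    have c2 : Commute (r⁻¹ * x) q := mul_inv_eq_iff_eq_mul.mp (by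
      calc r⁻¹ * x * q * (r⁻¹ * x)⁻¹ = r⁻¹ * (x * q * x⁻¹) * r := by group
        _ = q := by rw [← e2]; group)
    have hc : r⁻¹ * x ∈ Q := hCQ (mem_centralizer_iff.mpr fun y hy => by
      have hp2 := c1.mul_right c1
      have hp3 := hp2.mul_right c1
      have hw := q8_word (E hp) (E hq) (E hy) hne
      rw [← hEm hp hp, ← hEm (mul_mem hp hp) hp, ← hEm hp hq, ← hEm (mul_mem hp hp) hq,
        ← hEm (mul_mem (mul_mem hp hp) hp) hq, ← hE1] at hw
      rcases hw with h | h | h | h | h | h | h | h <;> rw [hinj _ _ h]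
      exacts [(Commute.one_right _).eq.symm, c1.eq.symm, hp2.eq.symm, hp3.eq.symm, c2.eq.symm,
        (c1.mul_right c2).eq.symm, (hp2.mul_right c2).eq.symm, (hp3.mul_right c2).eq.symm])
    rw [← mul_inv_cancel_left r x]
    exact mul_mem hrQ hc
  -- images of a noncommuting partner
  have img : ∀ {p q : T} (hp : p ∈ Q) (hq : q ∈ Q), q * p ≠ p * q → ∀ x : T,
      (x * p * x⁻¹ = p ∨ x * p * x⁻¹ = p * z) →
        x * q * x⁻¹ = q ∨ x * q * x⁻¹ = p * q ∨ x * q * x⁻¹ = p * p * q ∨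
          x * q * x⁻¹ = p * p * p * q := by
    intro p q hp hq hpq x h1
    have hne : E hq * E hp ≠ E hp * E hq := fun h => hpq
      (hinj (mul_mem hq hp) (mul_mem hp hq) (by rw [hEm hq hp, hEm hp hq, h]))
    have hx2 := hQn.conj_mem q hq x
    have hne2 : x * q * x⁻¹ * p ≠ p * (x * q * x⁻¹) := by
      intro h
      apply hpq
      have c : Commute (x * q * x⁻¹) (x * p * x⁻¹) := by
        rcases h1 with h' | h' <;> rw [h']
        · exact h
        · exact Commute.mul_right h (hzcomm _).symm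
      exact (Commute.conj_iff x).mp c
    have hne3 : E hx2 * E hp ≠ E hp * E hx2 := fun h => hne2
      (hinj (mul_mem hx2 hp) (mul_mem hp hx2) (by rw [hEm hx2 hp, hEm hp hx2, h]))
    have hw := q8_outside (E hp) (E hq) (E hx2) hne hne3
    rw [← hEm hp hp, ← hEm (mul_mem hp hp) hp, ← hEm hp hq, ← hEm (mul_mem hp hp) hq,
      ← hEm (mul_mem (mul_mem hp hp) hp) hq] at hw
    rcases hw with h | h | h | h
    · exact Or.inl (hinj _ _ h)
    · exact Or.inr (Or.inl (hinj _ _ h))
    · exact Or.inr (Or.inr (Or.inl (hinj _ _ h)))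
    · exact Or.inr (Or.inr (Or.inr (hinj _ _ h)))
  have hi' : ∀ x : T, x * i * x⁻¹ = i ∨ x * i * x⁻¹ = i * z := fun x => by
    rcases hmem _ (hi x) with h | h
    · exact Or.inl (mul_inv_eq_one.mp h)
    · exact Or.inr (by rw [← hzcomm i, ← h, inv_mul_cancel_right])
  have hpart : ∀ {p : T}, p ∈ Q → p * p ≠ 1 → ∃ q ∈ Q, q * p ≠ p * q := fun {p} hp hpp => by
    obtain ⟨q, hq⟩ := q8_partner _ (quat_fact e hp hpp)
    obtain ⟨⟨q, hqQ⟩, rfl⟩ := e.surjective q
    refine ⟨q, hqQ, fun h => hq ?_⟩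
    change E hqQ * E hp = E hp * E hqQ
    rw [← hEm hqQ hp, ← hEm hp hqQ]
    simp only [h]
  obtain ⟨j, hjQ, hij⟩ := hpart hiQ hii
  set π := QuotientGroup.mk' (zpowers z) with hπ
  have hπz : π z = 1 := (QuotientGroup.eq_one_iff z).mpr (mem_zpowers z)
  have hiiz := hsq' hiQ hii
  have himg : ∀ x : T, π (x * j * x⁻¹) = π j ∨ π (x * j * x⁻¹) = π (i * j) := by
    intro x
    rcases img hiQ hjQ hij x (hi' x) with h | h | h | h
    · exact Or.inl (by rw [h])
    · exact Or.inr (by rw [h])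
    · exact Or.inl (by rw [h, hiiz, map_mul, hπz, one_mul])
    · exact Or.inr (by rw [h, hiiz, map_mul, map_mul, hπz, one_mul, ← map_mul])
  set A0 := (centralizer ({π j} : Set (T ⧸ zpowers z))).comap π with hA0
  have hA0iff : ∀ x, x ∈ A0 ↔ π (x * j * x⁻¹) = π j := fun x => by
    rw [hA0, mem_comap, mem_centralizer_singleton_iff, map_mul, map_mul, map_inv,
      mul_inv_eq_iff_eq_mul]
  have h4 := two_mul_card_ge (A := A) (B := A0) (fun a _ b _ ha hb => by
    rw [hA0iff] at ha hb ⊢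
    have h1 := (himg a).resolve_left ha
    have h2 := (himg b).resolve_left hb
    calc π (a⁻¹ * b * j * (a⁻¹ * b)⁻¹) = π a⁻¹ * π (b * j * b⁻¹) * π a := by
          simp only [map_mul, map_inv]; group
      _ = π a⁻¹ * π (a * j * a⁻¹) * π a := by rw [h1, h2]
      _ = π j := by simp only [map_mul, map_inv]; group)
  have hA0Q : A ⊓ A0 ≤ Q := fun a ha => key hiQ hjQ hij hii a (hi' a) (by
    have h := (hA0iff a).mp ha.2
    rw [hπ, QuotientGroup.mk'_eq_mk'] at h
    obtain ⟨c, hc, hce⟩ := h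
    rcases hmem c hc with rfl | rfl
    · exact Or.inl (by rwa [mul_one] at hce)
    · exact Or.inr (by
        calc a * j * a⁻¹ = a * j * a⁻¹ * (c * c) := by rw [hzz, mul_one]
          _ = a * j * a⁻¹ * c * c := (mul_assoc _ _ _).symm
          _ = j * c := by rw [hce]))
  obtain ⟨p, hpA, hpQ, hpp⟩ : ∃ p, p ∈ A ∧ p ∈ Q ∧ p * p ≠ 1 := by
    by_contra hcon
    push Not at hcon
    have hsub : ((A ⊓ A0 : Subgroup T) : Set T) ⊆ {1, z} := fun x hx => by
      rcases hsq (hA0Q hx) (hcon x hx.1 (hA0Q hx)) with h | h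
      exacts [Or.inl h, Or.inr h]
    have h1 := Set.ncard_le_ncard hsub (Set.toFinite _)
    rw [← Nat.card_coe_set_eq] at h1
    have h2 := Set.ncard_insert_le 1 ({z} : Set T)
    rw [Set.ncard_singleton] at h2
    simp only [SetLike.coe_sort_coe] at h1
    omega
  have hAcomm : ∀ a ∈ A, ∀ b ∈ A, a * b = b * a := fun a ha b hb =>
    congrArg Subtype.val (hAc.is_comm.comm ⟨a, ha⟩ ⟨b, hb⟩)
  obtain ⟨a, haA, ha2, haQ⟩ : ∃ a, a ∈ A ∧ a * a = 1 ∧ a ∉ Q := by
    by_contra hcon
    push Not at hcon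
    refine hAn (isCyclic_of_comm_unique (hT.to_subgroup A)
      (fun a b => Subtype.ext (hAcomm _ a.2 _ b.2)) fun u v hu hv => ?_)
    have h : ∀ w : ↥A, orderOf w = 2 → (w : T) = z := fun w hw => by
      rw [← Subgroup.orderOf_coe] at hw
      exact (hsq (hcon _ w.2 (sq_eq_one_of_orderOf_two hw)) (sq_eq_one_of_orderOf_two hw)
        ).resolve_left (ne_one_of_orderOf_two hw)
    exact Subtype.ext ((h u hu).trans (h v hv).symm)
  obtain ⟨q, hqQ, hpq⟩ := hpart hpQ hpp
  have hap : a * p * a⁻¹ = p := mul_inv_eq_iff_eq_mul.mpr (hAcomm a haA p hpA)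
  have hppz := hsq' hpQ hpp
  have hainv : a⁻¹ = a := inv_eq_of_mul_eq_one_right ha2
  rcases img hpQ hqQ hpq a (Or.inl hap) with h | h | h | h
  · exact haQ (key hpQ hqQ hpq hpp a (Or.inl hap) (Or.inl h))
  · have e1 : a * (a * q * a⁻¹) * a⁻¹ = q := by
      rw [hainv]; simp only [mul_assoc, ha2, mul_one]; rw [← mul_assoc, ha2, one_mul]
    have e2 : a * (p * q) * a⁻¹ = z * q := by
      calc a * (p * q) * a⁻¹ = a * p * a⁻¹ * (a * q * a⁻¹) := by group
        _ = z * q := by rw [hap, h, ← mul_assoc, hppz]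
    rw [h, e2] at e1
    exact hz1 (by simpa using e1)
  · exact haQ (key hpQ hqQ hpq hpp a (Or.inl hap) (Or.inr (by rw [h, hppz, hzcomm q])))
  · have e1 : a * (a * q * a⁻¹) * a⁻¹ = q := by
      rw [hainv]; simp only [mul_assoc, ha2, mul_one]; rw [← mul_assoc, ha2, one_mul]
    rw [hppz] at h
    have e2 : a * (z * p * q) * a⁻¹ = z * q := by
      calc a * (z * p * q) * a⁻¹ = a * z * a⁻¹ * (a * p * a⁻¹) * (a * q * a⁻¹) := by group
        _ = z * q := by
          rw [hap, h, ← hzcomm a, mul_inv_cancel_right]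
          calc z * p * (z * p * q) = z * (p * z) * p * q := by simp only [mul_assoc]
            _ = z * z * (p * p) * q := by rw [← hzcomm p]; simp only [mul_assoc]
            _ = z * q := by rw [hzz, hppz, one_mul]
    rw [h, e2] at e1
    exact hz1 (by simpa using e1)

end Cfsg.Agent.Fg19NcAb
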